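import Groth.Agent.GenusOneSSLib.Basic
import Groth.Agent.CurvLib.Euler
import Groth.Agent.FormalProLib.Pro
import Groth.Agent.PnCohLib.HypSec

/-!
# Extending maps along a short exact sequence with quotient `O`
-/

set_option autoImplicit false
set_option linter.style.haveILetI false
set_option linter.unusedSectionVars false
universe u

open CategoryTheory CategoryTheory.Limits AlgebraicGeometry TopologicalSpace Opposite
open CurvLib (hMap hMap_comp hDel)

noncomputable section

namespace EulerPnLib

variable {X : Scheme.{u}}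

section Push

variable (S : ShortComplex X.Modules) {N : X.Modules} (α : S.X₁ ⟶ N)

/-- The pushforward of a short complex along a map of its first term. -/
abbrev pushSeq : ShortComplex X.Modules :=
  ShortComplex.mk (pushout.inl α S.f) (pushout.desc 0 S.g (by rw [comp_zero, S.zero])) (pushout.inl_desc _ _ _)

/-- The map into the pushforward. -/
def toPushSeq : S ⟶ pushSeq S α where
  τ₁ := α
  τ₂ := pushout.inr α S.f
  τ₃ := 𝟙 _
  comm₁₂ := pushout.condition
  comm₂₃ := (pushout.inr_desc _ _ _).trans (Category.comp_id _).symm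

variable {S} in
theorem shortExact_pushSeq (hS : S.ShortExact) : (pushSeq S α).ShortExact := by
  haveI := hS.mono_f
  haveI := hS.epi_g
  haveI : Epi (pushSeq S α).g := by
    exact epi_of_epi_fac (f := pushout.inr α S.f) (h := S.g) (pushout.inr_desc _ _ _)
  refine ⟨ShortComplex.exact_of_g_is_cokernel _ (CokernelCofork.IsColimit.ofπ' _ _ fun {A} h w => ⟨?_, ?_⟩)⟩
  · refine hS.exact.desc (pushout.inr α S.f ≫ h) ?_
    rw [← Category.assoc, ← pushout.condition, Category.assoc]
    exact (congrArg (α ≫ ·) w).trans comp_zero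
  · refine pushout.hom_ext ?_ ?_
    · rw [← Category.assoc]
      exact (congrArg (· ≫ _) (pushout.inl_desc _ _ _)).trans (zero_comp.trans w.symm)
    · rw [← Category.assoc, pushout.inr_desc]
      exact hS.exact.g_desc _ _

end Push

variable (k : Type u) [Field k] [X.Over (Spec (CommRingCat.of k))]

/-- The connecting map is natural. -/
theorem hDel_natural {S S' : ShortComplex X.Modules} (hS : S.ShortExact) (hS' : S'.ShortExact) (φ : S ⟶ S') (p : ℕ)
    (x : Coh.HH X S.X₃ p) :
    hDel (k := k) hS' p (hMap (k := k) φ.τ₃ p x) = hMap (k := k) φ.τ₁ (p + 1) (hDel (k := k) hS p x) :=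
  FormalProLib.hδ_natural' (QCohLib.toAbF_shortExact hS) (QCohLib.toAbF_shortExact hS')
    ((QCohLib.toAbF X).mapShortComplex.map φ) p x

include k in
/-- A map killing the extension class of a short exact sequence ending in `O` extends to the middle term. -/
theorem exists_extend {S : ShortComplex X.Modules} (hS : S.ShortExact) (e : S.X₃ ≅ Coh.structureModule X)
    {N : X.Modules} (α : S.X₁ ⟶ N) (h : ∀ x : Coh.HH X S.X₃ 0, hMap (k := k) α 1 (hDel (k := k) hS 0 x) = 0) :
    ∃ β : S.X₂ ⟶ N, S.f ≫ β = α := by
  let S' := pushSeq S α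
  have hS' : S'.ShortExact := shortExact_pushSeq α hS
  let x : Coh.HH X S'.X₃ 0 := GenusOneSSLib.homEquiv (k := k) S.X₃ e.inv
  have hx : x ∈ LinearMap.range (hMap (k := k) S'.g 0) := by
    rw [CurvLib.exact₃ hS' 0, LinearMap.mem_ker]
    have h1 := hDel_natural k hS hS' (toPushSeq S α) 0 x
    rw [show hMap (k := k) (toPushSeq S α).τ₃ 0 x = x from (CurvLib.hMap_apply (k := k) (𝟙 S.X₃) 0 x).trans (by
      rw [CategoryTheory.Functor.map_id, Sheaf.H.map_id_apply])] at h1
    rw [h1]
    exact h x
  obtain ⟨z, hz⟩ := hx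
  obtain ⟨σ, rfl⟩ := (GenusOneSSLib.homEquiv (k := k) S'.X₂).surjective z
  have hσ : σ ≫ S'.g = e.inv := (GenusOneSSLib.homEquiv (k := k) S'.X₃).injective
    ((hMap_comp (k := k) σ S'.g 0 _).trans hz)
  let sp := ShortComplex.Splitting.ofExactOfSection S' hS'.exact (e.hom ≫ σ)
    (by rw [Category.assoc, hσ, Iso.hom_inv_id]) hS'.mono_f
  refine ⟨pushout.inr α S.f ≫ sp.r, ?_⟩
  rw [← Category.assoc, ← pushout.condition, Category.assoc]
  exact (congrArg (α ≫ ·) sp.f_r).trans (Category.comp_id _)

include k in
/-- Extension is automatic when the first cohomology of the target vanishes. -/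
theorem exists_extend_of_subsingleton {S : ShortComplex X.Modules} (hS : S.ShortExact)
    (e : S.X₃ ≅ Coh.structureModule X) {N : X.Modules} (α : S.X₁ ⟶ N) (h : Subsingleton (Coh.HH X N (0 + 1))) :
    ∃ β : S.X₂ ⟶ N, S.f ≫ β = α :=
  exists_extend k hS e α fun _ => Subsingleton.elim _ _

end EulerPnLib
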