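import Groth.Agent.EulerPnLib.NullCor
import Groth.Agent.ProjBunLib.Ses
import Groth.Agent.HopfIneqLib.Sections
import Groth.Agent.PnCohLib.Resol
import Groth.Agent.MiscFlat6.FreeStalks

/-!
# Existence of null correlation maps
-/

set_option autoImplicit false
set_option linter.style.haveILetI false
set_option linter.unusedSectionVars false
set_option maxHeartbeats 1000000
set_option backward.isDefEq.respectTransparency false
set_option backward.isDefEq.respectTransparency.types false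
universe u

open CategoryTheory CategoryTheory.Limits AlgebraicGeometry TopologicalSpace Opposite
open DevissLib (St gm)
open GradedCechLib (Poly)

noncomputable section

namespace EulerPnLib

section General

variable {X : Scheme.{u}}

theorem rank_of_iso {n : ℕ} {A B : X.Modules} (h : FlatMod.IsFinLocFreeOfRank n A) (e : A ≅ B) :
    FlatMod.IsFinLocFreeOfRank n B := fun x => by
  obtain ⟨U, hU, ⟨e'⟩⟩ := h x
  exact ⟨U, hU, ⟨(Scheme.Modules.restrictFunctor U.ι).mapIso e.symm ≪≫ e'⟩⟩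

theorem rank_freeMod (n : ℕ) : FlatMod.IsFinLocFreeOfRank n (FlatMod.freeMod X n) := fun _ =>
  ⟨⊤, trivial, ⟨(Scheme.Modules.restrictFunctorIsoPullback (⊤ : X.Opens).ι).app _ ≪≫ KFlatLib.pullFreeIso _ n⟩⟩

/-- A morphism bijective on the opens inside a neighbourhood is bijective on the stalk. -/
theorem stalk_bijective {M N : X.Modules} (φ : M ⟶ N) (U : X.Opens)
    (h : ∀ V : X.Opens, V ≤ U → Function.Bijective (φ.app V)) {x : X} (hx : x ∈ U) :
    Function.Bijective ((St x).map φ).hom := by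
  refine ⟨(injective_iff_map_eq_zero _).2 fun z hz => ?_, fun z => ?_⟩
  · obtain ⟨V, hxV, s, rfl⟩ := DevissLib.exists_gm_eq M x z
    rw [DevissLib.gm_app, ← DevissLib.gm_zero N x hxV] at hz
    obtain ⟨W, hxW, i₁, i₂, he⟩ := TopCat.Presheaf.germ_eq N.presheaf x hxV hxV _ _ hz
    have hW : W ⊓ U ≤ V := inf_le_left.trans i₁.le
    rw [← DevissLib.gm_map M hW x ⟨hxW, hx⟩ s]
    refine Eq.trans (congrArg (gm M x (⟨hxW, hx⟩ : x ∈ W ⊓ U)) ((h (W ⊓ U) inf_le_right).1 ?_)) (DevissLib.gm_zero M x _)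
    rw [map_zero, QCohLib.app_map φ (homOfLE hW) s]
    refine Eq.trans ?_ (congrArg (N.presheaf.map (homOfLE (inf_le_left : W ⊓ U ≤ W)).op) (he.trans (map_zero _))
      |>.trans (map_zero _))
    conv_rhs => rw [← ConcreteCategory.comp_apply, ← N.presheaf.map_comp]
    rfl
  · obtain ⟨V, hxV, t, rfl⟩ := DevissLib.exists_gm_eq N x z
    obtain ⟨s, hs⟩ := (h (V ⊓ U) inf_le_right).2 (N.presheaf.map (homOfLE (inf_le_left : V ⊓ U ≤ V)).op t)
    exact ⟨gm M x (show x ∈ V ⊓ U from ⟨hxV, hx⟩) s, by rw [DevissLib.gm_app, hs, DevissLib.gm_map]⟩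

/-- The quotient by a line subbundle is a bundle. -/
theorem rank_cokernel [IsLocallyNoetherian X] {A B : X.Modules} {n : ℕ} (s : A ⟶ B)
    (hA : FlatMod.IsFinLocFreeOfRank 1 A) (hB : FlatMod.IsFinLocFreeOfRank (n + 1) B)
    (hs : ∀ x : X, ∃ r : (St x).obj B →ₗ[X.presheaf.stalk x] (St x).obj A, ∀ a, r (((St x).map s).hom a) = a) :
    Mono s ∧ FlatMod.IsFinLocFreeOfRank n (cokernel s) := by
  haveI hm : Mono s := Preadditive.mono_of_kernel_zero ((DevissLib.isZero_of_support_empty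
    (Set.eq_empty_of_forall_notMem fun x => DevissLib.notMem_support_kernel s x fun a b hab => by
      obtain ⟨r, hr⟩ := hs x
      rw [← hr a, ← hr b]
      exact congrArg r hab)).eq_of_src _ _)
  refine ⟨hm, ?_⟩
  let S := ShortComplex.mk s (cokernel.π s) (cokernel.condition s)
  have hS : S.ShortExact := { exact := ShortComplex.exact_of_g_is_cokernel _ (cokernelIsCokernel s) }
  have hC : Coh.IsCoh (cokernel s) := QCohLib.isCoh_cokernel s (CurvLib.isCoh_of_locFree hA).1 (CurvLib.isCoh_of_locFree hB)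
  have hst : ∀ x : X, Module.Free (X.presheaf.stalk x) ((DerSch.stalkFunctor X x).obj (cokernel s)) ∧
      Module.finrank (X.presheaf.stalk x) ((DerSch.stalkFunctor X x).obj (cokernel s)) = n := by
    intro x
    obtain ⟨r, hr⟩ := hs x
    obtain ⟨e₁⟩ := ProjBunLib.free_stalk_of_rank hA x
    obtain ⟨e₂⟩ := ProjBunLib.free_stalk_of_rank hB x
    let T := S.map (DerSch.stalkFunctor X x)
    have hT : T.ShortExact := hS.map_of_exact (DerSch.stalkFunctor X x)
    let σ := ShortComplex.Splitting.ofExactOfRetraction T hT.exact (ModuleCat.ofHom r)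
      (ModuleCat.hom_ext (LinearMap.ext hr)) hT.epi_g
    let w : T.X₂ ≃ₗ[X.presheaf.stalk x] T.X₁ × T.X₃ :=
      { toFun := fun b => (σ.r.hom b, T.g.hom b)
        invFun := fun p => T.f.hom p.1 + σ.s.hom p.2
        map_add' := fun a b => by simp
        map_smul' := fun a b => by simp
        left_inv := fun b => congr($(σ.id) b)
        right_inv := fun p => Prod.ext (by
            simp only [map_add]
            rw [show σ.r.hom (T.f.hom p.1) = p.1 from congr($(σ.f_r) p.1),
              show σ.r.hom (σ.s.hom p.2) = 0 from congr($(σ.s_r) p.2), add_zero]) (by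
            simp only [map_add]
            rw [show T.g.hom (T.f.hom p.1) = 0 from congr($(T.zero) p.1),
              show T.g.hom (σ.s.hom p.2) = p.2 from congr($(σ.s_g) p.2), zero_add]) }
    haveI : Module.Free (X.presheaf.stalk x) T.X₂ := Module.Free.of_equiv e₂.symm
    haveI : Module.Finite (X.presheaf.stalk x) T.X₂ := Module.Finite.equiv e₂.symm
    haveI : Module.Projective (X.presheaf.stalk x) T.X₃ :=
      Module.Projective.of_split σ.s.hom T.g.hom (LinearMap.ext fun a => congr($(σ.s_g) a))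
    haveI : Module.Finite (X.presheaf.stalk x) T.X₃ :=
      Module.Finite.of_surjective T.g.hom fun a => ⟨σ.s.hom a, congr($(σ.s_g) a)⟩
    haveI : Module.Free (X.presheaf.stalk x) T.X₃ := Module.free_of_flat_of_isLocalRing
    haveI : Module.Free (X.presheaf.stalk x) T.X₁ := Module.Free.of_equiv e₁.symm
    haveI : Module.Finite (X.presheaf.stalk x) T.X₁ := Module.Finite.equiv e₁.symm
    refine ⟨inferInstanceAs (Module.Free (X.presheaf.stalk x) T.X₃), ?_⟩
    have h := w.finrank_eq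
    rw [Module.finrank_prod, show Module.finrank (X.presheaf.stalk x) T.X₂ = n + 1 from
        e₂.finrank_eq.trans (Module.finrank_fin_fun _),
      show Module.finrank (X.presheaf.stalk x) T.X₁ = 1 from e₁.finrank_eq.trans (Module.finrank_fin_fun _)] at h
    show Module.finrank (X.presheaf.stalk x) T.X₃ = n
    omega
  haveI := hC.1
  have hF : FlatMod.IsFinLocFree (cokernel s) :=
    (MiscFlat6.isFP_and_free_iff (M := cokernel s)).1 ⟨QCohLib.isFP_of_isCoh _ hC, fun x => (hst x).1⟩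
  intro x
  obtain ⟨U, m, hxU, ⟨e⟩⟩ := hF x
  obtain ⟨e'⟩ := CurveVBLib.nonempty_stalk_pi_on e hxU
  obtain rfl : m = n := by rw [← (hst x).2, e'.finrank_eq, Module.finrank_fin_fun]
  exact ⟨U, hxU, ⟨e⟩⟩

end General

variable (n : ℕ) (k : Type u) [Field k]

local notation "P" => CohB1.ProjSpace n k
local notation "O'" => Twist.twistProjSpace n k
local notation "ℳ" => CohB1.polyGrading n k
local notation "Ω'" => Omega.sheaf (CohB1.ProjSpace.toSpec n k)

/-- Multiplication by a coordinate, `O(-2) → O(-1)`. -/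
def mulX2 (j : Fin (n + 1)) : O' (-2) ⟶ O' (-1) := mulHomX (Xel n k j) (by norm_num)

theorem val_mulX2 (j : Fin (n + 1)) {V : (CohB1.ProjSpace n k).Opens} (t : Γ(O' (-2), V)) (x : V) :
    TwistLib.val ((mulX2 n k j).app V t) x =
      algebraMap (Poly n k) (Twist.Loc ℳ x.1) (MvPolynomial.X j) * TwistLib.val t x :=
  val_mulHomX (Xel n k j) (by norm_num) t x

attribute [local irreducible] mulX2

/-- The generator `1/X_a²` of `O(-2)` on a chart. -/
def gen2 (a : Fin (n + 1)) : TwistLib.Unit' ℳ (-2) (QCohLib.stdOpen n k a) :=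
  ⟨0, 2, 1, MvPolynomial.X a ^ 2, SetLike.GradedOne.one_mem,
    by simpa using SetLike.pow_mem_graded 2 (GradedCechLib.X_mem n k a), by norm_num,
    fun x h => x.1.isPrime.ne_top ((Ideal.eq_top_iff_one _).mpr h),
    fun x h => x.2 (x.1.isPrime.mem_of_pow_mem 2 h)⟩

/-- The generator as a section. -/
def genS2 (a : Fin (n + 1)) : Γ(O' (-2), QCohLib.stdOpen n k a) := (gen2 n k a).sec

theorem genOn_genS2 (a : Fin (n + 1)) : AmpleLib.GenOn (O' (-2)) (genS2 n k a) := (gen2 n k a).genOn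

theorem mulX2_gen (a : Fin (n + 1)) : (mulX2 n k a).app _ (genS2 n k a) = genS n k a :=
  TwistLib.sec_ext fun x => by
    refine (val_mulX2 n k a _ x).trans ?_
    show _ * Localization.mk 1 _ = Localization.mk 1 _
    rw [← Localization.mk_one_eq_algebraMap, Localization.mk_mul, Localization.mk_eq_mk_iff, Localization.r_iff_exists]
    refine ⟨1, ?_⟩
    simp [gen2, gen, pow_two]

theorem stalk_bijective_mulX2 (a : Fin (n + 1)) {x : P} (hx : x ∈ QCohLib.stdOpen n k a) :
    Function.Bijective ((St x).map (mulX2 n k a)).hom := by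
  refine stalk_bijective _ _ (fun V hV => ?_) hx
  have e : ∀ c : Γ(P, V), (mulX2 n k a).app V (c • AmpleLib.res (O' (-2)) hV (genS2 n k a)) =
      c • AmpleLib.res (O' (-1)) hV (genS n k a) := fun c =>
    (QCohLib.app_smul (mulX2 n k a) V c _).trans (congrArg (c • ·)
      ((QCohLib.app_map (mulX2 n k a) (homOfLE hV) _).trans (congrArg _ (mulX2_gen n k a))))
  refine ⟨fun t t' h => ?_, fun t => ?_⟩
  · obtain ⟨c, rfl⟩ := (genOn_genS2 n k a V hV).2 t
    obtain ⟨c', rfl⟩ := (genOn_genS2 n k a V hV).2 t'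
    rw [e, e] at h
    rw [(genOn_genS n k a V hV).1 h]
  · obtain ⟨c, rfl⟩ := (genOn_genS n k a V hV).2 t
    exact ⟨_, e c⟩

/-- The partner of a coordinate. -/
def pr (hn : Odd n) (j : Fin (n + 1)) : Fin (n + 1) :=
  if h : Even (j : ℕ) then ⟨j + 1, by
    obtain ⟨a, ha⟩ := h
    obtain ⟨b, hb⟩ := hn
    omega⟩
  else ⟨j - 1, by omega⟩

theorem pr_spec (hn : Odd n) (j : Fin (n + 1)) :
    pr n hn (pr n hn j) = j ∧ (Even (pr n hn j : ℕ) ↔ ¬ Even (j : ℕ)) ∧ pr n hn j ≠ j := by
  by_cases h : Even (j : ℕ)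
  · have e : (pr n hn j : ℕ) = j + 1 := by rw [pr, dif_pos h]
    have h' : ¬ Even (pr n hn j : ℕ) := by rw [e, Nat.even_add_one]; exact not_not.2 h
    refine ⟨?_, ⟨fun hh => absurd hh h', fun hh => absurd h hh⟩, fun hh => by have := congrArg Fin.val hh; omega⟩
    ext
    rw [show (pr n hn (pr n hn j) : ℕ) = (pr n hn j : ℕ) - 1 by rw [pr, dif_neg h'], e]
    omega
  · have e : (pr n hn j : ℕ) = j - 1 := by rw [pr, dif_neg h]
    have hpos : 1 ≤ (j : ℕ) := by
      rcases Nat.eq_zero_or_pos (j : ℕ) with h0 | h0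
      · exact absurd (h0 ▸ (by decide : Even 0)) h
      · exact h0
    have h' : Even (pr n hn j : ℕ) := by
      rw [e, Nat.even_sub hpos]
      simp [h]
    refine ⟨?_, ⟨fun _ => h, fun _ => h'⟩, fun hh => by have := congrArg Fin.val hh; omega⟩
    ext
    rw [show (pr n hn (pr n hn j) : ℕ) = (pr n hn j : ℕ) + 1 by rw [pr, dif_pos h'], e]
    omega

/-- The sign of a coordinate. -/
def sgn (j : Fin (n + 1)) : k := if Even (j : ℕ) then 1 else -1

theorem sgn_ne_zero (j : Fin (n + 1)) : sgn n k j ≠ 0 := by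
  rw [sgn]; split_ifs <;> simp

theorem sgn_pr (hn : Odd n) (j : Fin (n + 1)) : sgn n k (pr n hn j) = - sgn n k j := by
  rw [sgn, sgn]
  by_cases h : Even (j : ℕ)
  · rw [if_pos h, if_neg fun h' => ((pr_spec n hn j).2.1.1 h') h]
  · rw [if_neg h, if_pos ((pr_spec n hn j).2.1.2 h), neg_neg]

/-- The alternating map `O(-2) → O(-1)^(n+1)`. -/
def vMap (hn : Odd n) : O' (-2) ⟶ mid n k := biproduct.lift fun j => sgn n k j • mulX2 n k (pr n hn j)

theorem vMap_sigma (hn : Odd n) : vMap n k hn ≫ sigma n k = 0 := by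
  refine Scheme.Modules.hom_ext _ _ fun V => ConcreteCategory.hom_ext _ _ fun t => TwistLib.sec_ext fun x => ?_
  refine ((congrArg (fun w => TwistLib.val w x) (app_comp' (vMap n k hn) (sigma n k) V t)).trans
    (val_sigma n k _ x)).trans ?_
  have hv : ∀ j, (biproduct.π (fun _ : Fin (n + 1) => O' (-1)) j).app V ((vMap n k hn).app V t) =
      (sgn n k j • mulX2 n k (pr n hn j)).app V t := fun j => by rw [← app_comp', vMap, biproduct.lift_π]
  simp only [hv]
  refine (Finset.sum_congr rfl fun j _ => congrArg (_ * ·)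
    ((val_smul_app n k _ _ t x).trans (congrArg (_ * ·) (val_mulX2 n k _ t x)))).trans ?_
  refine Eq.trans ?_ (show (0 : Twist.Loc ℳ x.1) = _ from rfl)
  refine Finset.sum_involution (fun j _ => pr n hn j) (fun j _ => ?_) (fun j _ _ => (pr_spec n hn j).2.2)
    (fun j _ => Finset.mem_univ _) (fun j _ => (pr_spec n hn j).1)
  rw [(pr_spec n hn j).1, sgn_pr, map_neg, map_neg]
  ring

/-- The alternating map is a subbundle. -/
theorem vMap_retract (hn : Odd n) (x : P) :
    ∃ r : (St x).obj (mid n k) →ₗ[(CohB1.ProjSpace n k).presheaf.stalk x] (St x).obj (O' (-2)),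
      ∀ a, r (((St x).map (vMap n k hn)).hom a) = a := by
  obtain ⟨b, hb⟩ := Opens.mem_iSup.1 (show x ∈ ⨆ a, QCohLib.stdOpen n k a by rw [QCohLib.iSup_stdOpen]; trivial)
  let j := pr n hn b
  let π' := biproduct.π (fun _ : Fin (n + 1) => O' (-1)) j
  let e := LinearEquiv.ofBijective ((St x).map (mulX2 n k b)).hom (stalk_bijective_mulX2 n k b hb)
  refine ⟨e.symm.toLinearMap ∘ₗ ((St x).map ((sgn n k j)⁻¹ • π')).hom, fun a => ?_⟩
  show e.symm (((St x).map ((sgn n k j)⁻¹ • π')).hom (((St x).map (vMap n k hn)).hom a)) = a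
  rw [← ModuleCat.comp_apply, ← (St x).map_comp, Linear.comp_smul, vMap, biproduct.lift_π, smul_smul,
    inv_mul_cancel₀ (sgn_ne_zero n k j), one_smul, show pr n hn j = b from (pr_spec n hn b).1]
  exact e.symm_apply_apply a

theorem rank_mid : FlatMod.IsFinLocFreeOfRank (n + 1) (mid n k) := by
  obtain ⟨e⟩ := PnCohLib.exists_sigma_iso (n := n) (R := k) (O' (-1)) (n + 1)
  have h := HopfIneqLib.locFree_tensor (VBPnLib.twist_rank k n (-1)) (rank_freeMod (X := P) (n + 1))
  rw [one_mul] at h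
  exact rank_of_iso h (e.symm ≪≫ (biproduct.isoCoproduct _).symm)

/-- A subbundle `O(-2) → Ω`. -/
theorem exists_untwisted (hn : Odd n) :
    ∃ w : O' (-2) ⟶ Ω', Mono w ∧ FlatMod.IsFinLocFreeOfRank (n - 1) (cokernel w) := by
  haveI := VBPnLib.isLocallyNoetherian_pn k n
  obtain ⟨n', rfl⟩ : ∃ n', n = n' + 1 := ⟨n - 1, by obtain ⟨b, hb⟩ := hn; omega⟩
  have hE := euler_shortExact (n' + 1) k
  haveI := hE.mono_f
  let w := hE.exact.lift (vMap (n' + 1) k hn) (vMap_sigma (n' + 1) k hn)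
  have hw : w ≫ eps (n' + 1) k = vMap (n' + 1) k hn := hE.exact.lift_f _ _
  haveI := OmegaPnLib.smoothRel_projSpace k (n' + 1)
  have h := rank_cokernel w (VBPnLib.twist_rank k (n' + 1) (-2)) (CohCmpLib.rank_omega (CohB1.ProjSpace.toSpec (n' + 1) k) (n' + 1))
    fun x => by
      obtain ⟨r, hr⟩ := vMap_retract (n' + 1) k hn x
      refine ⟨r ∘ₗ ((St x).map (eps (n' + 1) k)).hom, fun a => ?_⟩
      rw [LinearMap.comp_apply, ← ModuleCat.comp_apply, ← (St x).map_comp, hw]
      exact hr a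
  exact ⟨w, h.1, h.2⟩

theorem exists_nullCorrelation (hn : Odd n) :
    ∃ u : O' (-1) ⟶ CohB1.tensorMod Ω' (O' 1), Mono u ∧ FlatMod.IsFinLocFreeOfRank (n - 1) (cokernel u) := by
  obtain ⟨w, hw, hr⟩ := exists_untwisted n k hn
  let T1 := CurvLib.tensorLeft' (O' 1)
  haveI := VBPnLib.isEquivalence_twist k n 1
  obtain ⟨e⟩ := PicPnLib.twist_add n k 1 (-2)
  let a : T1.obj (O' (-2)) ≅ O' (-1) := e ≪≫ eqToIso (congrArg O' (by norm_num))
  let b : T1.obj Ω' ≅ CohB1.tensorMod Ω' (O' 1) := HilbPolyLib.swapIso _ _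
  haveI := hw
  haveI : Mono (T1.map w) := inferInstance
  haveI : Mono (a.inv ≫ T1.map w ≫ b.hom) := inferInstance
  refine ⟨a.inv ≫ T1.map w ≫ b.hom, inferInstance, ?_⟩
  have h := HopfIneqLib.locFree_tensor (VBPnLib.twist_rank k n 1) hr
  rw [one_mul] at h
  exact rank_of_iso h (PreservesCokernel.iso T1 w ≪≫
    cokernel.mapIso (T1.map w) (a.inv ≫ T1.map w ≫ b.hom) a b (by rw [Iso.hom_inv_id_assoc]))

end EulerPnLib
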