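import Groth.Agent.EulerPnLib.Homs
import Groth.Agent.PnCohLib.Twist

/-!
# The cotangent sheaf of projective space is simple
-/

set_option autoImplicit false
set_option linter.style.haveILetI false
set_option linter.unusedSectionVars false
set_option maxHeartbeats 1000000
set_option backward.isDefEq.respectTransparency false
set_option backward.isDefEq.respectTransparency.types false
universe u

open CategoryTheory CategoryTheory.Limits AlgebraicGeometry TopologicalSpace Opposite
open MvPolynomial (pderiv)
open GradedCechLib (deh Poly resO cstOn X_mem)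

noncomputable section

namespace EulerPnLib

variable (n : ℕ) (k : Type u) [Field k]

local notation "P" => CohB1.ProjSpace n k
local notation "O'" => Twist.twistProjSpace n k
local notation "ℳ" => CohB1.polyGrading n k
local notation "Ω'" => Omega.sheaf (CohB1.ProjSpace.toSpec n k)

instance quasiSeparated_pn : QuasiSeparated (CohB1.ProjSpace.toSpec n k) := OmegaPnLib.quasiSeparated_toSpec k n

/-- The Euler sequence ending in `O`. -/
theorem euler_shortExact : (eulerSeq n k).ShortExact := shortExact_eulerSeq n k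

theorem eps_ext {M : (CohB1.ProjSpace n k).Modules} {a b : M ⟶ Ω'} (h : ∀ j, a ≫ epsC n k j = b ≫ epsC n k j) :
    a = b := by
  haveI := (euler_shortExact n k).mono_f
  refine (cancel_mono (eps n k)).1 (biproduct.hom_ext _ _ fun j => ?_)
  simp only [eps, Category.assoc, biproduct.lift_π]
  exact h j

theorem sum_eps_mulX : ∑ j, epsC n k j ≫ mulXHom n k j = 0 := by
  rw [← biproduct.lift_desc]
  exact eps_sigma n k

/-- Maps `Ω → O(-1)` are constant vector fields. -/
theorem exists_omega_to_twist (α : Ω' ⟶ O' (-1)) : ∃ c : Fin (n + 1) → k, α = ∑ j, c j • epsC n k j := by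
  obtain ⟨e⟩ := PicPnLib.twist_zero n k
  obtain ⟨β, hβ⟩ := exists_extend_of_subsingleton k (euler_shortExact n k) e α
    (PnCohLib.subsingleton_HH_twist (-1) (0 + 1) (by omega) (by omega))
  choose c hc using fun j => exists_scalar n k (PicPnLib.twist_inv n k (-1))
    (biproduct.ι (fun _ : Fin (n + 1) => O' (-1)) j ≫ β)
  refine ⟨c, hβ.symm.trans ?_⟩
  have e1 : β = biproduct.desc fun j => c j • 𝟙 (O' (-1)) := biproduct.hom_ext' _ _ fun j => by
    rw [biproduct.ι_desc]
    exact hc j
  rw [e1]
  refine (biproduct.lift_desc (g := epsC n k) (h := fun j => c j • 𝟙 (O' (-1)))).trans ?_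
  exact Finset.sum_congr rfl fun j _ => (Linear.comp_smul (X := Ω') (Y := O' (-1)) (Z := O' (-1)) (epsC n k j) (c j) (𝟙 _)).trans (congrArg (c j • ·) (Category.comp_id _))

lemma val_eps_dt (a : Fin (n + 1)) (l : Fin n) (i j : Fin (n + 1)) (c : k) (x : QCohLib.stdOpen n k a) :
    algebraMap (Poly n k) _ (MvPolynomial.X a) * algebraMap (Poly n k) _ (MvPolynomial.X a) *
        TwistLib.val (((c • epsC n k j) ≫ mulXHom n k i).app _ (dt n k a le_rfl l)) x =
      algebraMap (Poly n k) (Twist.Loc ℳ x.1) (MvPolynomial.C c * MvPolynomial.X i *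
        ((if a.succAbove l = j then MvPolynomial.X a else 0) -
          if a = j then MvPolynomial.X (a.succAbove l) else 0)) := by
  rw [app_comp', val_mulXel, val_smul_app, map_mul, map_mul, ← val_dt n k a le_rfl l j x]
  ring

theorem linear_alg {σ : Type} [Fintype σ] [DecidableEq σ] (A : σ → σ → k) (a : σ)
    (h : ∀ b, b ≠ a → (∑ i, MvPolynomial.C (A i b) * MvPolynomial.X i) * MvPolynomial.X a =
      (∑ i, MvPolynomial.C (A i a) * MvPolynomial.X i) * (MvPolynomial.X b : MvPolynomial σ k)) (i j : σ) :
    A i j = if i = j then A a a else 0 := by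
  have hev : ∀ (b i : σ), MvPolynomial.eval (Pi.single i (1 : k))
      (∑ t, MvPolynomial.C (A t b) * MvPolynomial.X t) = A i b := fun b i => by
    simp [Pi.single_apply]
  have ha : ∀ b, b ≠ a → A b a = 0 := fun b hb => by
    have h1 := congrArg (MvPolynomial.eval (Pi.single b (1 : k))) (h b hb)
    simpa [map_mul, hev, Pi.single_apply, Ne.symm hb, MvPolynomial.eval_X] using h1.symm
  have hL : ∀ b, (∑ t, MvPolynomial.C (A t b) * MvPolynomial.X t : MvPolynomial σ k) =
      MvPolynomial.C (A a a) * MvPolynomial.X b := by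
    have h0 : (∑ t, MvPolynomial.C (A t a) * MvPolynomial.X t : MvPolynomial σ k) =
        MvPolynomial.C (A a a) * MvPolynomial.X a :=
      Finset.sum_eq_single a (fun t _ ht => by rw [ha t ht, MvPolynomial.C_0, zero_mul])
        (fun h' => (h' (Finset.mem_univ a)).elim)
    intro b
    by_cases hb : b = a
    · rw [hb, h0]
    · refine mul_right_cancel₀ (MvPolynomial.X_ne_zero a) ((h b hb).trans ?_)
      rw [h0]
      ring
  have h2 := congrArg (pderiv i) (hL j)
  replace h2 := congrArg MvPolynomial.constantCoeff h2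
  simpa [MvPolynomial.pderiv_X, Pi.single_apply, eq_comm (a := j) (b := i), apply_ite MvPolynomial.constantCoeff] using h2

/-- Endomorphisms of the cotangent sheaf are scalars. -/
theorem omega_simple (φ : Ω' ⟶ Ω') : ∃ c : k, φ = c • 𝟙 Ω' := by
  classical
  choose A hA using fun i => exists_omega_to_twist n k (φ ≫ epsC n k i)
  obtain ⟨a, x, hx⟩ := exists_chart_point n k
  have h0 : ∑ i, ∑ j, (A i j • epsC n k j) ≫ mulXHom n k i = 0 := by
    simp_rw [← Preadditive.sum_comp, ← hA, Category.assoc, ← Preadditive.comp_sum, sum_eps_mulX, comp_zero]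
  have hrel : ∀ b, b ≠ a → (∑ i, MvPolynomial.C (A i b) * MvPolynomial.X i) * MvPolynomial.X a =
      (∑ i, MvPolynomial.C (A i a) * MvPolynomial.X i) * (MvPolynomial.X b : Poly n k) := by
    intro b hb
    obtain ⟨l, rfl⟩ := (Fin.eq_self_or_eq_succAbove a b).resolve_left hb
    have h1 := congrArg (fun f => algebraMap (Poly n k) (Twist.Loc ℳ x) (MvPolynomial.X a) *
      algebraMap (Poly n k) _ (MvPolynomial.X a) *
      TwistLib.val (Scheme.Modules.Hom.app f _ (dt n k a le_rfl l)) (⟨x, hx⟩ : QCohLib.stdOpen n k a)) h0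
    simp only [app_sum, val_sum, Finset.mul_sum] at h1
    replace h1 : algebraMap (Poly n k) (Twist.Loc ℳ x) (∑ i, ∑ j, MvPolynomial.C (A i j) * MvPolynomial.X i *
        ((if a.succAbove l = j then MvPolynomial.X a else 0) -
          if a = j then MvPolynomial.X (a.succAbove l) else 0)) = 0 := by
      refine Eq.trans ?_ (h1.trans (mul_zero _))
      rw [map_sum]
      refine Finset.sum_congr rfl fun i _ => ?_
      rw [map_sum]
      exact Finset.sum_congr rfl fun j _ => (val_eps_dt n k a l i j (A i j) ⟨x, hx⟩).symm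
    have h2 := algebraMap_loc_injective n k x (h1.trans (map_zero _).symm)
    simp only [mul_sub, Finset.sum_sub_distrib, mul_ite, mul_zero, Finset.sum_ite_eq, Finset.mem_univ, if_true] at h2
    rw [← Finset.sum_mul, ← Finset.sum_mul] at h2
    exact sub_eq_zero.1 h2
  refine ⟨A a a, eps_ext n k fun i => (hA i).trans ?_⟩
  rw [Linear.smul_comp, Category.id_comp, Finset.sum_eq_single i]
  · rw [linear_alg k A a hrel i i, if_pos rfl]
  · intro j _ hj
    rw [linear_alg k A a hrel i j, if_neg hj.symm, zero_smul]
  · exact fun h => (h (Finset.mem_univ i)).elim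

/-- Scalars as maps of abelian sheaves. -/
theorem toSheaf_smul_id {M : (CohB1.ProjSpace n k).Modules} (c : k) :
    (SheafOfModules.toSheaf (CohB1.ProjSpace n k).ringCatSheaf).map (c • 𝟙 M) =
      Coh.smulAb M (Coh.toGlobal (CohB1.ProjSpace.toSpec n k) c) := by
  change (SheafOfModules.toSheaf _).map (Formal.smulMod k M c ≫ 𝟙 M) = _
  rw [Category.comp_id]
  rfl

end EulerPnLib
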