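import Groth.Agent.TwistLib.Basic
import Groth.Agent.GradedCechLib.Chart
import Groth.Agent.OmegaAffLib.Universal
import Mathlib.RingTheory.MvPolynomial.EulerIdentity

/-!
# The derivations `∂/∂X_j : O → O(-1)` of projective space
-/

set_option autoImplicit false
set_option linter.style.haveILetI false
set_option linter.unusedSectionVars false
set_option maxHeartbeats 1000000
set_option backward.isDefEq.respectTransparency.types false
universe u

open CategoryTheory CategoryTheory.Limits AlgebraicGeometry TopologicalSpace Opposite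
open MvPolynomial (pderiv)
open GradedCechLib (deh deh₀ Poly resO cstOn toSec xpw X_mem)

noncomputable section

namespace EulerPnLib

section Frac

variable {R A : Type u} [CommRing R] [CommRing A] [Algebra R A] (δ : Derivation R A A) {S : Submonoid A}

/-- A derivation extended to fractions by the quotient rule. -/
def fracD (q : Localization S) : Localization S :=
  q.liftOn (fun a s => Localization.mk (δ a * s - a * δ (s : A)) (s * s)) fun {a c b d} h => by
    obtain ⟨e, he⟩ := Localization.r_iff_exists.mp h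
    refine Localization.mk_eq_mk_iff.mpr (Localization.r_iff_exists.mpr ⟨e * e, ?_⟩)
    have hd : δ ((e : A) * ((d : A) * a)) = δ ((e : A) * ((b : A) * c)) := congrArg δ he
    simp only [Derivation.leibniz, smul_eq_mul] at hd
    simp only [Submonoid.coe_mul]
    linear_combination ((b : A) * d * e) * hd +
      (-((b : A) * d * δ (e : A)) - e * (d * δ (b : A) + b * δ (d : A))) * he

@[simp] theorem fracD_mk (a : A) (s : S) :
    fracD δ (Localization.mk a s) = Localization.mk (δ a * s - a * δ (s : A)) (s * s) := Localization.liftOn_mk _ _ a s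

theorem fracD_add (p q : Localization S) : fracD δ (p + q) = fracD δ p + fracD δ q := by
  induction p using Localization.induction_on with | _ x =>
  induction q using Localization.induction_on with | _ y =>
  simp only [Localization.add_mk, fracD_mk]
  refine Localization.mk_eq_mk_iff.mpr (Localization.r_iff_exists.mpr ⟨1, ?_⟩)
  simp only [Submonoid.coe_mul, Submonoid.coe_one, one_mul, map_add, Derivation.leibniz, smul_eq_mul]
  ring

theorem fracD_mul (p q : Localization S) : fracD δ (p * q) = p * fracD δ q + q * fracD δ p := by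
  induction p using Localization.induction_on with | _ x =>
  induction q using Localization.induction_on with | _ y =>
  simp only [Localization.mk_mul, fracD_mk, Localization.add_mk]
  refine Localization.mk_eq_mk_iff.mpr (Localization.r_iff_exists.mpr ⟨1, ?_⟩)
  simp only [Submonoid.coe_mul, Submonoid.coe_one, one_mul, Derivation.leibniz, smul_eq_mul]
  ring

end Frac

section Sections

variable {R A : Type u} [CommRing R] [CommRing A] [Algebra R A] {𝒜 : ℕ → Submodule R A} [GradedAlgebra 𝒜]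

/-- A section of a twisting sheaf from a function which is locally one fraction. -/
def secOf {q : ℤ} {V : (Proj 𝒜).Opens} (f : ∀ x : V, Twist.Loc 𝒜 x.1)
    (h : ∀ x : V, ∃ (W : (Proj 𝒜).Opens) (_ : x.1 ∈ W) (hW : W ≤ V) (i j : ℕ) (a s : A) (_ : a ∈ 𝒜 i)
      (_ : s ∈ 𝒜 j) (hnin : ∀ y : W, s ∉ y.1.asHomogeneousIdeal), ((i : ℤ) = j + q ∨ a = 0) ∧
        ∀ y : W, f ⟨y.1, hW y.2⟩ = Localization.mk a ⟨s, hnin y⟩) : Γ(Twist.twist 𝒜 q, V) :=
  (⟨fun x => ⟨f x, by
      obtain ⟨W, hxW, hW, i, j, a, s, ha, hs, hnin, hd, hv⟩ := h x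
      refine (hv ⟨x.1, hxW⟩).symm ▸ ?_
      rcases hd with hd | hd
      · exact Submodule.subset_span ⟨i, j, ⟨a, ha⟩, ⟨s, hs⟩, hnin ⟨x.1, hxW⟩, hd, rfl⟩
      · rw [hd, Localization.mk_zero]; exact zero_mem _⟩,
    fun x => by
      obtain ⟨W, hxW, hW, i, j, a, s, ha, hs, hnin, hd, hv⟩ := h x
      exact ⟨W, hxW, homOfLE hW, i, j, ⟨a, ha⟩, ⟨s, hs⟩, hnin, hd, fun y => hv y⟩⟩ :
    Twist.sectN (𝒜 := 𝒜) q (op V))

lemma val_secOf {q : ℤ} {V : (Proj 𝒜).Opens} (f : ∀ x : V, Twist.Loc 𝒜 x.1) (h) (x : V) :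
    TwistLib.val (secOf (q := q) f h) x = f x := rfl

lemma val_add {q : ℤ} {V : (Proj 𝒜).Opens} (t t' : Γ(Twist.twist 𝒜 q, V)) (x : V) :
    TwistLib.val (t + t') x = TwistLib.val t x + TwistLib.val t' x := rfl

lemma val_zero {q : ℤ} {V : (Proj 𝒜).Opens} (x : V) : TwistLib.val (0 : Γ(Twist.twist 𝒜 q, V)) x = 0 := rfl

variable (𝒜) in
/-- The value of a function at a point. -/
def ev {V : (Proj 𝒜).Opens} (x : V) : Γ(Proj 𝒜, V) →+* Twist.Loc 𝒜 x.1 where
  toFun r := ((show Twist.O (op V) from r).1 x).val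
  map_one' := HomogeneousLocalization.val_one
  map_mul' _ _ := HomogeneousLocalization.val_mul _ _
  map_zero' := HomogeneousLocalization.val_zero
  map_add' _ _ := HomogeneousLocalization.val_add _ _

lemma val_smul' {q : ℤ} {V : (Proj 𝒜).Opens} (r : Γ(Proj 𝒜, V)) (t : Γ(Twist.twist 𝒜 q, V)) (x : V) :
    TwistLib.val (r • t) x = ev 𝒜 x r * TwistLib.val t x := TwistLib.val_smul r t x

lemma ev_ext {V : (Proj 𝒜).Opens} {r r' : Γ(Proj 𝒜, V)} (h : ∀ x, ev 𝒜 x r = ev 𝒜 x r') : r = r' :=
  Subtype.ext (funext fun x => HomogeneousLocalization.val_injective _ (h x))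

/-- Multiplication by a homogeneous element. -/
def mulSecX {d : ℕ} (g : 𝒜 d) {p q : ℤ} (hq : p + d = q) {V : (Proj 𝒜).Opens} (t : Γ(Twist.twist 𝒜 p, V)) :
    Γ(Twist.twist 𝒜 q, V) :=
  secOf (fun x => algebraMap A _ (g : A) * TwistLib.val t x) fun x => by
    obtain ⟨W, hxW, hW, i, j, a, s, ha, hs, hnin, hd, hv⟩ := TwistLib.val_exists t x
    refine ⟨W, hxW, hW, d + i, j, (g : A) * a, s, SetLike.mul_mem_graded g.2 ha, hs, hnin, ?_, fun y => ?_⟩
    · rcases hd with hd | hd
      · exact Or.inl (by push_cast; omega)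
      · exact Or.inr (by rw [hd, mul_zero])
    · rw [hv y, ← Localization.mk_one_eq_algebraMap, Localization.mk_mul, one_mul]

lemma val_mulSecX {d : ℕ} (g : 𝒜 d) {p q : ℤ} (hq : p + d = q) {V : (Proj 𝒜).Opens}
    (t : Γ(Twist.twist 𝒜 p, V)) (x : V) :
    TwistLib.val (mulSecX g hq t) x = algebraMap A _ (g : A) * TwistLib.val t x := rfl

/-- Multiplication by a homogeneous element, as a morphism of twisting sheaves. -/
def mulHomX {d : ℕ} (g : 𝒜 d) {p q : ℤ} (hq : p + d = q) : Twist.twist 𝒜 p ⟶ Twist.twist 𝒜 q :=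
  ⟨PresheafOfModules.homMk (M₁ := (Twist.twist 𝒜 p).val) (M₂ := (Twist.twist 𝒜 q).val)
    { app := fun W => AddCommGrpCat.ofHom
        (AddMonoidHom.mk' (fun t : Γ(Twist.twist 𝒜 p, W.unop) => mulSecX g hq t) fun t t' =>
          TwistLib.sec_ext (V := W.unop) fun x => mul_add _ (TwistLib.val (V := W.unop) t x) (TwistLib.val (V := W.unop) t' x))
      naturality := fun W W' j => by ext t; rfl }
    fun W r t => TwistLib.sec_ext (V := W.unop) fun x => by
      refine (congrArg (algebraMap A _ (g : A) * ·) (TwistLib.val_smul r t x)).trans ?_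
      refine Eq.trans ?_ (TwistLib.val_smul r (mulSecX g hq t) x).symm
      rw [val_mulSecX]
      exact mul_left_comm _ _ _⟩

lemma val_mulHomX {d : ℕ} (g : 𝒜 d) {p q : ℤ} (hq : p + d = q) {V : (Proj 𝒜).Opens}
    (t : Γ(Twist.twist 𝒜 p, V)) (x : V) :
    TwistLib.val ((mulHomX g hq).app V t) x = algebraMap A _ (g : A) * TwistLib.val t x := rfl

end Sections

section Pn

variable (n : ℕ) (R : Type u) [CommRing R]

/-- The value of a dehomogenised form on a chart. -/
theorem ev_deh (a : Fin (n + 1)) {p : Poly n R} {m : ℕ} (hp : p.IsHomogeneous m) (x : QCohLib.stdOpen n R a) :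
    ev (CohB1.polyGrading n R) x (deh n R a p) =
      Localization.mk p (⟨MvPolynomial.X a ^ m, fun h => x.2 (x.1.isPrime.mem_of_pow_mem m h)⟩ :
        x.1.asHomogeneousIdeal.toIdeal.primeCompl) := by
  have hp' : p ∈ CohB1.polyGrading n R (m • 1) := by
    rw [smul_eq_mul, mul_one]; exact (MvPolynomial.mem_homogeneousSubmodule _ _).2 hp
  have h0 : deh₀ n R a p = HomogeneousLocalization.Away.mk (CohB1.polyGrading n R) (X_mem n R a) m p hp' := by
    refine HomogeneousLocalization.val_injective _ ?_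
    rw [GradedCechLib.val_deh₀_homogeneous n R a p m hp, HomogeneousLocalization.Away.val_mk]
    rfl
  show ((show Twist.O (op (QCohLib.stdOpen n R a)) from deh n R a p).1 x).val = _
  rw [GradedCechLib.deh, RingHom.comp_apply, h0, GradedCechLib.toSec]
  erw [ProjectiveSpectrum.Proj.awayToSection_apply]
  rw [HomogeneousLocalization.Away.val_mk, Localization.mk_eq_mk', IsLocalization.map_mk']
  change IsLocalization.mk' (Twist.Loc (CohB1.polyGrading n R) x.1) p _ = _
  rw [← Localization.mk_eq_mk', Localization.mk_eq_mk_iff, Localization.r_iff_exists]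
  exact ⟨1, by simp⟩

/-- The value of a constant. -/
theorem ev_cstOn {V : (CohB1.ProjSpace n R).Opens} (r : R) (x : V) :
    ev (CohB1.polyGrading n R) x (cstOn n R V r) =
      algebraMap (Poly n R) _ (MvPolynomial.C r) := by
  obtain ⟨a, ha⟩ := Opens.mem_iSup.1 (show x.1 ∈ ⨆ a, QCohLib.stdOpen n R a by
    rw [QCohLib.iSup_stdOpen]; trivial)
  have h := ev_deh n R a (MvPolynomial.isHomogeneous_C (Fin (n + 1)) r) ⟨x.1, ha⟩
  rw [GradedCechLib.deh_C] at h
  refine Eq.trans (Eq.trans ?_ h) ?_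
  · rfl
  · rw [← Localization.mk_one_eq_algebraMap]
    exact congrArg (Localization.mk _) (Subtype.ext (pow_zero _))

/-- The derivative of a function in the direction of a coordinate, a section of `O(-1)`. -/
def secD (j : Fin (n + 1)) {V : (CohB1.ProjSpace n R).Opens} (f : Γ(CohB1.ProjSpace n R, V)) :
    Γ(Twist.twist (CohB1.polyGrading n R) (-1), V) :=
  secOf (fun x => fracD (pderiv j) (ev (CohB1.polyGrading n R) x f)) fun x => by
    obtain ⟨W, hxW, ι, k, ⟨r, hr⟩, ⟨t, ht⟩, hnin, hw⟩ := (show Twist.O (op V) from f).2 x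
    have hv : ∀ y : W, ev (CohB1.polyGrading n R) ⟨y.1, ι.le y.2⟩ f = Localization.mk r ⟨t, hnin y⟩ := fun y => by
      refine (congrArg HomogeneousLocalization.val (hw y)).trans ?_
      rw [HomogeneousLocalization.val_mk]
    have hr' : r.IsHomogeneous k := (MvPolynomial.mem_homogeneousSubmodule _ _).1 hr
    have ht' : t.IsHomogeneous k := (MvPolynomial.mem_homogeneousSubmodule _ _).1 ht
    have hdr := (MvPolynomial.mem_homogeneousSubmodule (k - 1) (pderiv j r)).2 hr'.pderiv
    have hdt := (MvPolynomial.mem_homogeneousSubmodule (k - 1) (pderiv j t)).2 ht'.pderiv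
    refine ⟨W, hxW, ι.le, k - 1 + k, k + k, pderiv j r * t - r * pderiv j t, t * t, ?_,
      SetLike.mul_mem_graded ht ht, fun y h => (y.1.isPrime.mem_or_mem h).elim (hnin y) (hnin y), ?_, fun y => ?_⟩
    · refine sub_mem (SetLike.mul_mem_graded hdr ht) ?_
      rw [mul_comm r]
      exact SetLike.mul_mem_graded hdt hr
    · rcases Nat.eq_zero_or_pos k with hk | hk
      · subst hk
        rw [← MvPolynomial.totalDegree_zero_iff_isHomogeneous, MvPolynomial.totalDegree_eq_zero_iff_eq_C] at hr' ht'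
        exact Or.inr (by rw [hr', ht', MvPolynomial.pderiv_C, MvPolynomial.pderiv_C, zero_mul, mul_zero, sub_zero])
      · exact Or.inl (by omega)
    · rw [hv y, fracD_mk]
      rfl

lemma val_secD (j : Fin (n + 1)) {V : (CohB1.ProjSpace n R).Opens} (f : Γ(CohB1.ProjSpace n R, V)) (x : V) :
    TwistLib.val (secD n R j f) x = fracD (pderiv j) (ev (CohB1.polyGrading n R) x f) := rfl

theorem fracD_ev_app (j : Fin (n + 1)) (V : (Spec (CommRingCat.of R)).Opens) (b : Γ(Spec (CommRingCat.of R), V))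
    (x : (CohB1.ProjSpace.toSpec n R) ⁻¹ᵁ V) :
    fracD (pderiv j) (ev (CohB1.polyGrading n R) x ((CohB1.ProjSpace.toSpec n R).app V b)) = 0 := by
  let f := CohB1.ProjSpace.toSpec n R
  let e := Scheme.ΓSpecIso (CommRingCat.of R)
  obtain ⟨g, hgV, hxg⟩ := (isAffineOpen_top (Spec (CommRingCat.of R))).exists_basicOpen_le
    (V := V) ⟨f.base x.1, x.2⟩ trivial
  let W : (Spec (CommRingCat.of R)).Opens := (Spec (CommRingCat.of R)).basicOpen g
  haveI := (isAffineOpen_top (Spec (CommRingCat.of R))).isLocalization_basicOpen g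
  obtain ⟨⟨r, ⟨-, m, rfl⟩⟩, hr⟩ := IsLocalization.surj (Submonoid.powers g)
    ((Spec (CommRingCat.of R)).presheaf.map (homOfLE hgV).op b : Γ(Spec (CommRingCat.of R), W))
  have hxW : x.1 ∈ f ⁻¹ᵁ W := hxg
  let φ : Γ(Spec (CommRingCat.of R), W) →+* Twist.Loc (CohB1.polyGrading n R) x.1 :=
    (ev (CohB1.polyGrading n R) (⟨x.1, hxW⟩ : (f ⁻¹ᵁ W : (CohB1.ProjSpace n R).Opens))).comp (f.app W).hom
  have hc : ∀ t : Γ(Spec (CommRingCat.of R), ⊤),
      φ ((Spec (CommRingCat.of R)).presheaf.map (homOfLE (le_top : W ≤ ⊤)).op t) =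
        algebraMap (Poly n R) _ (MvPolynomial.C (e.hom t)) := fun t => by
    rw [← ev_cstOn n R (e.hom t) (⟨x.1, hxW⟩ : (f ⁻¹ᵁ W : (CohB1.ProjSpace n R).Opens))]
    refine congrArg (ev (CohB1.polyGrading n R) (⟨x.1, hxW⟩ : (f ⁻¹ᵁ W : (CohB1.ProjSpace n R).Opens))) ?_
    refine (ConcreteCategory.congr_hom (f.naturality (homOfLE (le_top : W ≤ ⊤)).op) t).trans ?_
    show _ = resO n R le_top (f.appTop (e.inv (e.hom t)))
    refine Eq.trans ?_ (congrArg (fun z => resO n R le_top (f.appTop z)) (e.hom_inv_id_apply t)).symm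
    rfl
  have hb : ev (CohB1.polyGrading n R) x (f.app V b) =
      φ ((Spec (CommRingCat.of R)).presheaf.map (homOfLE hgV).op b) :=
    (congrArg (ev (CohB1.polyGrading n R) (⟨x.1, hxW⟩ : (f ⁻¹ᵁ W : (CohB1.ProjSpace n R).Opens)))
      (ConcreteCategory.congr_hom (f.naturality (homOfLE hgV).op) b)).symm
  have h0 : ∀ t : Γ(Spec (CommRingCat.of R), ⊤),
      fracD (pderiv j) (φ ((Spec (CommRingCat.of R)).presheaf.map (homOfLE (le_top : W ≤ ⊤)).op t)) = 0 := fun t => by
    rw [hc, ← Localization.mk_one_eq_algebraMap, fracD_mk]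
    simp [Localization.mk_zero]
  rw [RingHom.algebraMap_toAlgebra] at hr
  have hu : IsUnit (φ ((Spec (CommRingCat.of R)).presheaf.map (homOfLE (le_top : W ≤ ⊤)).op (g ^ m))) := by
    rw [map_pow, map_pow]
    refine (IsUnit.map φ ?_).pow m
    have := IsLocalization.map_units (M := Submonoid.powers g) Γ(Spec (CommRingCat.of R), W) ⟨g, Submonoid.mem_powers g⟩
    rw [RingHom.algebraMap_toAlgebra] at this
    exact this
  have h1 := congrArg (fun z => fracD (pderiv j) (φ z)) hr
  simp only [map_mul] at h1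
  rw [fracD_mul] at h1
  erw [h0 r, h0 (g ^ m), mul_zero, zero_add] at h1
  rw [hb]
  exact hu.mul_right_eq_zero.1 h1

/-- `∂/∂X_j` as a derivation of projective space into `O(-1)`. -/
def pderivDer (j : Fin (n + 1)) :
    OmegaSh.Der (CohB1.ProjSpace.toSpec n R) (Twist.twistProjSpace n R (-1)) where
  d {V} := AddMonoidHom.mk' (fun f : Γ(CohB1.ProjSpace n R, V.unop) => secD n R j f) fun f g =>
    TwistLib.sec_ext (V := V.unop) fun x =>
      (congrArg (fracD (pderiv j)) (map_add (ev (CohB1.polyGrading n R) x) f g)).trans (fracD_add _ _ _)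
  d_mul {V} f g := TwistLib.sec_ext (V := V.unop) fun x => by
    refine (show _ = ev (CohB1.polyGrading n R) x f * TwistLib.val (secD n R j g) x +
      ev (CohB1.polyGrading n R) x g * TwistLib.val (secD n R j f) x from ?_).trans ?_
    · exact (congrArg (fracD (pderiv j)) (map_mul (ev (CohB1.polyGrading n R) x) f g)).trans (fracD_mul _ _ _)
    · exact (congr_arg₂ (· + ·) (val_smul' f (secD n R j g) x) (val_smul' g (secD n R j f) x)).symm
  d_map {V W} i f := TwistLib.sec_ext (V := W.unop) fun x => rfl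
  d_app {V} b := TwistLib.sec_ext (V := (CohB1.ProjSpace.toSpec n R) ⁻¹ᵁ V.unop) fun x =>
    fracD_ev_app n R j V.unop b x

lemma val_pderivDer (j : Fin (n + 1)) {V : (CohB1.ProjSpace n R).Opens} (f : Γ(CohB1.ProjSpace n R, V)) (x : V) :
    TwistLib.val ((pderivDer n R j).app V f) x = fracD (pderiv j) (ev (CohB1.polyGrading n R) x f) := rfl

end Pn

end EulerPnLib
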