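import Groth.Agent.EulerPnLib.Restrict
import Groth.Agent.PnCohLib.Resol
import Groth.Agent.LMLib.Duality

/-!
# Applications of the restricted Euler sequence
-/

set_option autoImplicit false
set_option linter.style.haveILetI false
set_option linter.unusedSectionVars false
set_option maxHeartbeats 1000000
set_option backward.isDefEq.respectTransparency false
set_option backward.isDefEq.respectTransparency.types false
universe u

open CategoryTheory CategoryTheory.Limits AlgebraicGeometry TopologicalSpace Opposite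
open CurvLib (hMap)

noncomputable section

namespace EulerPnLib

theorem nonempty_biproduct_one {X : Scheme.{u}} (M : X.Modules) {r : ℕ} (h : r = 1) :
    Nonempty ((⨁ fun _ : Fin r => M) ≅ M) := by
  subst h
  exact ⟨biproductUniqueIso _⟩

variable {k : Type u} [Field k]

theorem omega_line_iso : Nonempty (Omega.sheaf (CohB1.ProjSpace.toSpec 1 k) ≅ Twist.twistProjSpace 1 k (-2)) := by
  haveI := OmegaPnLib.smoothRel_projSpace k 1
  exact AdjFormLib.nonempty_top_iso_twist 1 k _ (LMLib.isExtPow_one _)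

theorem restrict_hyperplane {n : ℕ} (hn : 1 ≤ n) (i : CohB1.ProjSpace (n - 1) k ⟶ CohB1.ProjSpace n k)
    (hO : Nonempty ((Scheme.Modules.pullback i).obj (Twist.twistProjSpace n k 1) ≅ Twist.twistProjSpace (n - 1) k 1)) :
    Nonempty ((Scheme.Modules.pullback i).obj (Omega.sheaf (CohB1.ProjSpace.toSpec n k)) ≅
      Omega.sheaf (CohB1.ProjSpace.toSpec (n - 1) k) ⊞ Twist.twistProjSpace (n - 1) k (-1)) := by
  obtain ⟨e⟩ := pb_omega (n - 1) n i hO
  obtain ⟨b⟩ := nonempty_biproduct_one (Twist.twistProjSpace (n - 1) k (-1)) (show n - (n - 1) = 1 by omega)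
  exact ⟨e ≪≫ biprod.mapIso (Iso.refl _) b⟩

theorem restrict_line {n : ℕ} (i : CohB1.ProjSpace 1 k ⟶ CohB1.ProjSpace n k)
    (hO : Nonempty ((Scheme.Modules.pullback i).obj (Twist.twistProjSpace n k 1) ≅ Twist.twistProjSpace 1 k 1)) :
    Nonempty ((Scheme.Modules.pullback i).obj (Omega.sheaf (CohB1.ProjSpace.toSpec n k)) ≅
      Twist.twistProjSpace 1 k (-2) ⊞ ∐ fun _ : Fin (n - 1) => Twist.twistProjSpace 1 k (-1)) := by
  obtain ⟨e⟩ := pb_omega 1 n i hO
  obtain ⟨w⟩ := omega_line_iso (k := k)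
  exact ⟨e ≪≫ biprod.mapIso w (biproduct.isoCoproduct _)⟩

theorem h0_omega (n : ℕ) (hn : 1 ≤ n) : Subsingleton (Coh.HH (CohB1.ProjSpace n k) (Omega.sheaf (CohB1.ProjSpace.toSpec n k)) 0) := by
  haveI : Subsingleton (Coh.HH (CohB1.ProjSpace n k) (mid n k) 0) :=
    PnCohLib.subsingleton_HH_biproduct (k := k) (fun _ : Fin (n + 1) => Twist.twistProjSpace n k (-1)) (𝟭 _) 0 fun _ =>
      PnCohLib.subsingleton_HH_twist (n := n) (R := k) (-1) 0 (by omega) (by omega)
  exact (CurvLib.injective₀ (k := k) (euler_shortExact n k)).subsingleton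

theorem restrict_plane (u : Twist.twistProjSpace 3 k (-1) ⟶
      CohB1.tensorMod (Omega.sheaf (CohB1.ProjSpace.toSpec 3 k)) (Twist.twistProjSpace 3 k 1))
    [Mono u] (hM : FlatMod.IsFinLocFreeOfRank 2 (cokernel u))
    (i : CohB1.ProjSpace 2 k ⟶ CohB1.ProjSpace 3 k)
    (hO : Nonempty ((Scheme.Modules.pullback i).obj (Twist.twistProjSpace 3 k 1) ≅ Twist.twistProjSpace 2 k 1)) :
    Subsingleton (Coh.HH (CohB1.ProjSpace 2 k)
        (CohB1.tensorMod ((Scheme.Modules.pullback i).obj (cokernel u)) (Twist.twistProjSpace 2 k (-1))) 0) ∧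
      Nontrivial (Coh.HH (CohB1.ProjSpace 2 k) ((Scheme.Modules.pullback i).obj (cokernel u)) 0) := by
  let O₂ := Twist.twistProjSpace 2 k
  let Ω₂ := Omega.sheaf (CohB1.ProjSpace.toSpec 2 k)
  let Φ := Scheme.Modules.pullback i
  have hS := ProjBunLib.shortExact_pullback i (shortExact_cokernel 3 k u) hM
  obtain ⟨e1⟩ := VBHyp.pb_twist i hO (-1)
  obtain ⟨e2⟩ := VBHyp.pb_tensor_twist i hO (Omega.sheaf (CohB1.ProjSpace.toSpec 3 k)) 1
  obtain ⟨eΩ⟩ := restrict_hyperplane (n := 3) (by norm_num) i hO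
  obtain ⟨a⟩ := PicPnLib.twist_add 2 k 1 (-1)
  obtain ⟨z⟩ := PicPnLib.twist_zero 2 k
  let c : CohB1.tensorMod (O₂ 1) (O₂ (-1)) ≅ Coh.structureModule _ := a ≪≫ eqToIso (by norm_num) ≪≫ z
  constructor
  · let L := O₂ (-1)
    let S' := ((ShortComplex.mk u (cokernel.π u) (cokernel.condition u)).map Φ).map (ProjFormLib.tF L)
    have hS' : S'.ShortExact :=
      ProjFormLib.shortExact_tens (CurveVBLib.isFinLocFree_of_rank (VBPnLib.twist_rank k 2 (-1))) hS
    obtain ⟨a'⟩ := PicPnLib.twist_add 2 k (-1) (-1)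
    haveI h1 : Subsingleton (Coh.HH (CohB1.ProjSpace 2 k) S'.X₁ (0 + 1)) :=
      SerreVanLib.subsingleton_HH_of_iso (HilbPolyLib.congrRight L e1 ≪≫ a') _
        (PnCohLib.subsingleton_HH_twist (n := 2) (R := k) _ _ (by omega) (by omega))
    let e : S'.X₂ ≅ Φ.obj (Omega.sheaf (CohB1.ProjSpace.toSpec 3 k)) :=
      HilbPolyLib.congrRight L e2 ≪≫ HilbPolyLib.swapIso _ _ ≪≫ HilbPolyLib.assocIso _ _ _ ≪≫
        HilbPolyLib.congrRight _ c ≪≫ HilbPolyLib.swapIso _ _ ≪≫ HilbPolyLib.unitLeft _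
    haveI h2 : Subsingleton (Coh.HH (CohB1.ProjSpace 2 k) S'.X₂ 0) :=
      SerreVanLib.subsingleton_HH_of_iso (e ≪≫ eΩ) 0
        (PnCohLib.subsingleton_HH_biprod 0 (h0_omega 2 (by norm_num))
          (PnCohLib.subsingleton_HH_twist (n := 2) (R := k) (-1) 0 (by omega) (by omega)))
    have hs : Function.Surjective (hMap (k := k) S'.g 0) := fun y => by
      refine LinearMap.mem_range.1 ?_
      rw [CurvLib.exact₃ hS' 0, LinearMap.mem_ker]
      exact Subsingleton.elim _ _
    exact SerreVanLib.subsingleton_HH_of_iso (HilbPolyLib.swapIso _ _) 0 hs.subsingleton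
  · by_contra hnt
    rw [not_nontrivial_iff_subsingleton] at hnt
    haveI : Subsingleton (Coh.HH (CohB1.ProjSpace 2 k) ((ShortComplex.mk u (cokernel.π u)
        (cokernel.condition u)).map Φ).X₁ 0) :=
      SerreVanLib.subsingleton_HH_of_iso e1 0 (PnCohLib.subsingleton_HH_twist (n := 2) (R := k) _ _ (by omega) (by omega))
    haveI := hnt
    have h2 : Subsingleton (Coh.HH (CohB1.ProjSpace 2 k) ((ShortComplex.mk u (cokernel.π u)
        (cokernel.condition u)).map Φ).X₂ 0) := subsingleton_of_forall_eq 0 fun x => by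
      have hx : x ∈ LinearMap.ker (hMap (k := k) ((ShortComplex.mk u (cokernel.π u)
          (cokernel.condition u)).map Φ).g 0) := LinearMap.mem_ker.2 (@Subsingleton.elim _ hnt _ _)
      rw [← CurvLib.exact₂ hS 0] at hx
      obtain ⟨w, rfl⟩ := hx
      rw [Subsingleton.elim w 0, map_zero]
    let T := ProjFormLib.tF (O₂ 1)
    haveI : T.Additive := Functor.additive_of_preserves_binary_products _
    haveI : PreservesBinaryBiproducts T := preservesBinaryBiproducts_of_preservesBiproducts T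
    let e : ((ShortComplex.mk u (cokernel.π u) (cokernel.condition u)).map Φ).X₂ ≅
        T.obj Ω₂ ⊞ T.obj (O₂ (-1)) :=
      e2 ≪≫ HilbPolyLib.swapIso _ _ ≪≫ HilbPolyLib.congrRight (O₂ 1) eΩ ≪≫ T.mapBiprod _ _
    haveI h3 : Subsingleton (Coh.HH (CohB1.ProjSpace 2 k) (T.obj Ω₂ ⊞ T.obj (O₂ (-1))) 0) :=
      SerreVanLib.subsingleton_HH_of_iso e.symm 0 h2
    have h4 : Subsingleton (Coh.HH (CohB1.ProjSpace 2 k) (T.obj (O₂ (-1))) 0) := subsingleton_of_forall_eq 0 fun x => by
      have h := CurvLib.hMap_comp (k := k) (biprod.inr : T.obj (O₂ (-1)) ⟶ T.obj Ω₂ ⊞ T.obj (O₂ (-1))) biprod.snd 0 x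
      rw [biprod.inr_snd, PnDualLib.hMap_id, Subsingleton.elim (hMap (k := k) biprod.inr 0 x) 0, map_zero] at h
      exact h
    haveI := VBPnLib.subsingleton_hom k _ (SerreVanLib.subsingleton_HH_of_iso c.symm 0 h4)
    obtain ⟨v, hv⟩ := VBPnLib.exists_twist_hom k 2 (le_refl (0 : ℤ))
    exact hv ((cancel_epi z.inv).1 ((cancel_mono z.hom).1 (Subsingleton.elim _ _)))

end EulerPnLib
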