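import Groth.Agent.EulerPnLib.Seq
import Groth.Agent.EulerPnLib.Lift
import Groth.Agent.AVThetaLib.Scalar
import Groth.Agent.ProjSecLib.Gamma
import Groth.Agent.VBPnLib.Pn

/-!
# Maps between twists of `O` on projective space
-/

set_option autoImplicit false
set_option linter.style.haveILetI false
set_option linter.unusedSectionVars false
set_option maxHeartbeats 1000000
set_option backward.isDefEq.respectTransparency false
set_option backward.isDefEq.respectTransparency.types false
universe u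

open CategoryTheory CategoryTheory.Limits AlgebraicGeometry TopologicalSpace Opposite
open MvPolynomial (pderiv)
open GradedCechLib (deh Poly resO cstOn X_mem)

noncomputable section

namespace EulerPnLib

variable (n : ℕ) (k : Type u) [Field k]

local notation "P" => CohB1.ProjSpace n k
local notation "O'" => Twist.twistProjSpace n k
local notation "ℳ" => CohB1.polyGrading n k

/-- Global functions are constants. -/
theorem exists_const (r : Γ(P, ⊤)) : ∃ c : k, r = Coh.toGlobal (CohB1.ProjSpace.toSpec n k) c := by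
  let s : Γ(O' ((0 : ℕ) : ℤ), ⊤) := r • (one₀ n k).sec
  obtain ⟨⟨p, hp⟩, hs⟩ := ProjSecLib.globalOf_surjective (n := n) (R := k) (d := 0) s
  have hp' := (MvPolynomial.mem_homogeneousSubmodule _ _).1 hp
  rw [← MvPolynomial.totalDegree_zero_iff_isHomogeneous, MvPolynomial.totalDegree_eq_zero_iff_eq_C] at hp'
  refine ⟨MvPolynomial.coeff 0 p, ev_ext fun x => ?_⟩
  have h1 : ev ℳ x r = TwistLib.val s x := by
    refine Eq.symm ((val_smul' r _ x).trans ?_)
    rw [show TwistLib.val (one₀ n k).sec x = 1 from Localization.mk_one]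
    exact mul_one _
  rw [h1, ← hs]
  refine Eq.trans ?_ (ev_cstOn n k (MvPolynomial.coeff 0 p) x).symm
  rw [← Localization.mk_one_eq_algebraMap, ← hp']
  rfl

theorem val_cst_smul {q : ℤ} (c : k) {V : (CohB1.ProjSpace n k).Opens} (t : Γ(O' q, V)) (x : V) :
    TwistLib.val (cstOn n k V c • t) x =
      algebraMap (Poly n k) (Twist.Loc ℳ x.1) (MvPolynomial.C c) * TwistLib.val t x := by
  refine (val_smul' _ t x).trans ?_
  rw [← ev_cstOn n k c x]

theorem smul_app' {M N : (CohB1.ProjSpace n k).Modules} (c : k) (φ : M ⟶ N) (V : (CohB1.ProjSpace n k).Opens)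
    (t : Γ(M, V)) : (c • φ).app V t = cstOn n k V c • φ.app V t := by
  change (Formal.smulMod k M c ≫ φ).app V t = _
  rw [app_comp']
  exact QCohLib.app_smul φ V (cstOn n k V c) t

theorem val_smul_app {M : (CohB1.ProjSpace n k).Modules} {q : ℤ} (c : k) (φ : M ⟶ O' q)
    {V : (CohB1.ProjSpace n k).Opens} (t : Γ(M, V)) (x : V) :
    TwistLib.val ((c • φ).app V t) x =
      algebraMap (Poly n k) (Twist.Loc ℳ x.1) (MvPolynomial.C c) * TwistLib.val (φ.app V t) x := by
  rw [smul_app']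
  exact val_cst_smul n k c _ x

/-- Endomorphisms of a line bundle of twists are scalars. -/
theorem exists_scalar {M : (CohB1.ProjSpace n k).Modules} (hM : PicF.IsInvertible M) (φ : M ⟶ M) :
    ∃ c : k, φ = c • 𝟙 M := by
  obtain ⟨r, rfl⟩ := AVThetaLib.exists_eq_smulHom hM φ
  obtain ⟨c, rfl⟩ := exists_const n k r
  refine ⟨c, ?_⟩
  change _ = Formal.smulMod k M c ≫ 𝟙 M
  rw [Category.comp_id]
  rfl

theorem algebraMap_loc_injective (x : P) : Function.Injective (algebraMap (Poly n k) (Twist.Loc ℳ x)) :=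
  IsLocalization.injective _ x.asHomogeneousIdeal.toIdeal.primeCompl_le_nonZeroDivisors

theorem exists_chart_point : ∃ (a : Fin (n + 1)) (x : P), x ∈ QCohLib.stdOpen n k a := by
  haveI := VBPnLib.isIntegral_pn k n
  obtain ⟨x⟩ : Nonempty P := inferInstance
  obtain ⟨a, ha⟩ := Opens.mem_iSup.1 (show x ∈ ⨆ a, QCohLib.stdOpen n k a by rw [QCohLib.iSup_stdOpen]; trivial)
  exact ⟨a, x, ha⟩

/-- The generator `1/X_a` of `O(-1)` on a chart. -/
def gen (a : Fin (n + 1)) : TwistLib.Unit' ℳ (-1) (QCohLib.stdOpen n k a) :=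
  ⟨0, 1, 1, MvPolynomial.X a, SetLike.GradedOne.one_mem, X_mem n k a, by norm_num,
    fun x h => x.1.isPrime.ne_top ((Ideal.eq_top_iff_one _).mpr h), fun x => x.2⟩

theorem X_mul_val_gen (a : Fin (n + 1)) (x : QCohLib.stdOpen n k a) :
    algebraMap (Poly n k) (Twist.Loc ℳ x.1) (MvPolynomial.X a) * TwistLib.val (gen n k a).sec x = 1 := by
  show _ * Localization.mk 1 _ = _
  rw [← Localization.mk_one_eq_algebraMap, Localization.mk_mul, one_mul, mul_one]
  exact Localization.mk_self (⟨MvPolynomial.X a, x.2⟩ : x.1.asHomogeneousIdeal.toIdeal.primeCompl)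

/-- The generator as a section of `O(-1)`. -/
def genS (a : Fin (n + 1)) : Γ(O' (-1), QCohLib.stdOpen n k a) := (gen n k a).sec

theorem genS_mul (a : Fin (n + 1)) (x : QCohLib.stdOpen n k a) :
    algebraMap (Poly n k) (Twist.Loc ℳ x.1) (MvPolynomial.X a) * TwistLib.val (genS n k a) x = 1 :=
  X_mul_val_gen n k a x

theorem genOn_genS (a : Fin (n + 1)) : AmpleLib.GenOn (O' (-1)) (genS n k a) := (gen n k a).genOn

theorem val_resS {q : ℤ} {V W : (CohB1.ProjSpace n k).Opens} (h : V ≤ W) (t : Γ(O' q, W)) (x : V) :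
    TwistLib.val (AmpleLib.res (O' q) h t) x = TwistLib.val t ⟨x.1, h x.2⟩ := rfl

theorem val_hom (h : O' (-1) ⟶ O' 0) (a : Fin (n + 1)) {V : (CohB1.ProjSpace n k).Opens}
    (hV : V ≤ QCohLib.stdOpen n k a) (t : Γ(O' (-1), V)) (x : V) :
    TwistLib.val (h.app V t) x = algebraMap (Poly n k) (Twist.Loc ℳ x.1) (MvPolynomial.X a) * TwistLib.val t x *
      TwistLib.val (h.app _ (genS n k a)) ⟨x.1, hV x.2⟩ := by
  obtain ⟨c, rfl⟩ := (genOn_genS n k a V hV).2 t
  have e1 : h.app V (c • AmpleLib.res (O' (-1)) hV (genS n k a)) =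
      c • AmpleLib.res (O' 0) hV (h.app _ (genS n k a)) :=
    (QCohLib.app_smul h V c _).trans (congrArg (c • ·) (QCohLib.app_map h (homOfLE hV) _))
  refine (congrArg (fun w => TwistLib.val w x) e1).trans ?_
  refine ((val_smul' c _ x).trans (congrArg (_ * ·) (val_resS n k hV _ x))).trans ?_
  refine Eq.trans ?_ (congrArg (fun w => algebraMap (Poly n k) (Twist.Loc ℳ x.1) (MvPolynomial.X a) * w *
      TwistLib.val (h.app _ (genS n k a)) ⟨x.1, hV x.2⟩)
    ((val_smul' c _ x).trans (congrArg (_ * ·) (val_resS n k hV (genS n k a) x)))).symm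
  rw [mul_left_comm (algebraMap (Poly n k) _ _)]
  erw [genS_mul n k a ⟨x.1, hV x.2⟩]
  rw [mul_one]

theorem alg_aux {L : Type*} [CommRing L] {A B G H K : L} (hB : B * G = 1) (e : H = A * G * K) : B * H = A * K := by
  rw [e, ← mul_assoc, mul_left_comm, hB, mul_one]

/-- Maps `O(-1) → O` are linear forms. -/
theorem exists_forms (h : O' (-1) ⟶ O' 0) : ∃ c : Fin (n + 1) → k, h = ∑ j, c j • mulXHom n k j := by
  classical
  choose α hα using fun x : P =>
    Opens.mem_iSup.1 (show x ∈ ⨆ a, QCohLib.stdOpen n k a by rw [QCohLib.iSup_stdOpen]; trivial)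
  let f : ∀ x : (⊤ : (CohB1.ProjSpace n k).Opens), Twist.Loc ℳ x.1 := fun x =>
    algebraMap (Poly n k) (Twist.Loc ℳ x.1) (MvPolynomial.X (α x.1)) *
      TwistLib.val (h.app _ (genS n k (α x.1))) ⟨x.1, hα x.1⟩
  have hf : ∀ (a : Fin (n + 1)) (x : QCohLib.stdOpen n k a), f ⟨x.1, trivial⟩ =
      algebraMap (Poly n k) (Twist.Loc ℳ x.1) (MvPolynomial.X a) * TwistLib.val (h.app _ (genS n k a)) x := by
    intro a x
    let W := QCohLib.stdOpen n k a ⊓ QCohLib.stdOpen n k (α x.1)
    have e : TwistLib.val (h.app _ (genS n k (α x.1))) ⟨x.1, hα x.1⟩ =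
        algebraMap (Poly n k) (Twist.Loc ℳ x.1) (MvPolynomial.X a) *
          TwistLib.val (genS n k (α x.1)) ⟨x.1, hα x.1⟩ * TwistLib.val (h.app _ (genS n k a)) x :=
      (congrArg (fun w => TwistLib.val w (⟨x.1, x.2, hα x.1⟩ : W))
        (QCohLib.app_map h (homOfLE (inf_le_right : W ≤ QCohLib.stdOpen n k (α x.1))) (genS n k (α x.1)))).symm.trans
        (val_hom n k h a (V := W) inf_le_left
          (AmpleLib.res _ (inf_le_right : W ≤ _) (genS n k (α x.1))) ⟨x.1, x.2, hα x.1⟩)
    exact alg_aux (genS_mul n k (α x.1) ⟨x.1, hα x.1⟩) e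
  have key : ∀ (V : (CohB1.ProjSpace n k).Opens) (t : Γ(O' (-1), V)) (x : V),
      TwistLib.val (h.app V t) x = f ⟨x.1, trivial⟩ * TwistLib.val t x := by
    intro V t x
    let W := V ⊓ QCohLib.stdOpen n k (α x.1)
    have e : TwistLib.val (h.app V t) x = algebraMap (Poly n k) (Twist.Loc ℳ x.1) (MvPolynomial.X (α x.1)) *
        TwistLib.val t x * TwistLib.val (h.app _ (genS n k (α x.1))) ⟨x.1, hα x.1⟩ :=
      (congrArg (fun w => TwistLib.val w (⟨x.1, x.2, hα x.1⟩ : W))
        (QCohLib.app_map h (homOfLE (inf_le_left : W ≤ V)) t)).symm.trans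
        (val_hom n k h (α x.1) (V := W) inf_le_right
          (AmpleLib.res _ (inf_le_left : W ≤ V) t) ⟨x.1, x.2, hα x.1⟩)
    exact e.trans (mul_right_comm _ _ _)
  let s : Γ(O' ((1 : ℕ) : ℤ), ⊤) := secOf f fun x => by
    obtain ⟨W, hxW, hW, i, j, p, q, hp, hq, hnin, hd, hv⟩ :=
      TwistLib.val_exists (h.app _ (genS n k (α x.1))) ⟨x.1, hα x.1⟩
    refine ⟨W, hxW, le_top, 1 + i, j, MvPolynomial.X (α x.1) * p, q, SetLike.mul_mem_graded (X_mem n k _) hp, hq,
      hnin, ?_, fun y => ?_⟩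
    · rcases hd with hd | hd
      · exact Or.inl (by push_cast; omega)
      · exact Or.inr (by rw [hd, mul_zero])
    · refine (hf (α x.1) ⟨y.1, hW y.2⟩).trans ((congrArg (_ * ·) (hv y)).trans ?_)
      rw [← Localization.mk_one_eq_algebraMap, Localization.mk_mul, one_mul]
  obtain ⟨⟨p, hp⟩, hs⟩ := ProjSecLib.globalOf_surjective (n := n) (R := k) (d := 1) s
  have hp' := (MvPolynomial.mem_homogeneousSubmodule _ _).1 hp
  refine ⟨fun j => MvPolynomial.coeff 0 (pderiv j p), Scheme.Modules.hom_ext _ _ fun V =>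
    ConcreteCategory.hom_ext _ _ fun t => TwistLib.sec_ext fun x => ?_⟩
  have e1 : algebraMap (Poly n k) (Twist.Loc ℳ x.1) p = f ⟨x.1, trivial⟩ := by
    refine Eq.trans ?_ (congrArg (fun w => TwistLib.val w (⟨x.1, trivial⟩ : (⊤ : (CohB1.ProjSpace n k).Opens))) hs)
    rw [← Localization.mk_one_eq_algebraMap]
    rfl
  have e2 : ∀ j, MvPolynomial.C (MvPolynomial.coeff 0 (pderiv j p)) = pderiv j p := fun j => by
    have h1 := hp'.pderiv (i := j)
    rw [Nat.sub_self, ← MvPolynomial.totalDegree_zero_iff_isHomogeneous, MvPolynomial.totalDegree_eq_zero_iff_eq_C]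
      at h1
    exact h1.symm
  refine (key V t x).trans ?_
  rw [← e1, app_sum, val_sum]
  simp only [val_smul_app, val_mulXel, ← mul_assoc, ← map_mul, e2, ← Finset.sum_mul, ← map_sum,
    mul_comm (pderiv _ p), hp'.sum_X_mul_pderiv, one_smul]

/-- The coordinates are linearly independent. -/
theorem forms_injective (c : Fin (n + 1) → k) (h : ∑ j, c j • mulXHom n k j = 0) : c = 0 := by
  classical
  obtain ⟨a, x, hx⟩ := exists_chart_point n k
  have h1 := congrArg (fun φ => TwistLib.val (Scheme.Modules.Hom.app φ _ (genS n k a)) ⟨x, hx⟩) h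
  rw [app_sum, val_sum] at h1
  replace h1 : algebraMap (Poly n k) (Twist.Loc ℳ x) (∑ j, MvPolynomial.C (c j) * MvPolynomial.X j) *
      TwistLib.val (genS n k a) ⟨x, hx⟩ = 0 := by
    refine Eq.trans ?_ h1
    rw [map_sum, Finset.sum_mul]
    refine Finset.sum_congr rfl fun j _ => ?_
    rw [map_mul, mul_assoc]
    exact ((val_smul_app n k (c j) _ (genS n k a) ⟨x, hx⟩).trans
      (congrArg (_ * ·) (val_mulXel n k j (genS n k a) ⟨x, hx⟩))).symm
  replace h1 : algebraMap (Poly n k) (Twist.Loc ℳ x) (∑ j, MvPolynomial.C (c j) * MvPolynomial.X j) = 0 := by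
    have h2 := congrArg (algebraMap (Poly n k) (Twist.Loc ℳ x) (MvPolynomial.X a) * ·) h1
    rw [mul_left_comm, genS_mul n k a ⟨x, hx⟩, mul_one] at h2
    exact h2.trans (mul_zero _)
  have h3 := (algebraMap_loc_injective n k x) (h1.trans (map_zero _).symm)
  funext j
  have h4 := congrArg (pderiv j) h3
  simpa [MvPolynomial.pderiv_X, Pi.single_apply] using h4

end EulerPnLib
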