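import Groth.Agent.EulerPnLib.Simple
import Groth.Agent.PnDualLib.Pair
import Groth.Agent.VBP1Lib.Twist
import Groth.Agent.SerreVanLib.Main
import Groth.Agent.GrassLib.SchProjSpace
import Groth.Agent.PnCohLib.Split

/-!
# Quotients of `O(-1) → Ω(1)`
-/

set_option autoImplicit false
set_option linter.style.haveILetI false
set_option linter.unusedSectionVars false
set_option maxHeartbeats 1000000
set_option backward.isDefEq.respectTransparency false
set_option backward.isDefEq.respectTransparency.types false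
universe u

open CategoryTheory CategoryTheory.Limits AlgebraicGeometry TopologicalSpace Opposite
open CurvLib (hMap hMap_comp hDel)

noncomputable section

namespace EulerPnLib

theorem not_isZero_of_rank {X : Scheme.{u}} [Nonempty X] {r : ℕ} {M : X.Modules}
    (hM : FlatMod.IsFinLocFreeOfRank (r + 1) M) : ¬ IsZero M := fun hz => by
  obtain ⟨x⟩ : Nonempty X := inferInstance
  obtain ⟨U, hx, ⟨e⟩⟩ := hM x
  haveI : Nonempty ↥(⊤ : (U : Scheme.{u}).Opens) := ⟨⟨⟨x, hx⟩, trivial⟩⟩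
  have h0 : IsZero (FlatMod.freeMod (U : Scheme.{u}) (r + 1)) :=
    ((Scheme.Modules.restrictFunctor U.ι).map_isZero hz).of_iso e.symm
  have h1 : (𝟙 (Coh.structureModule (U : Scheme.{u}))) = 0 := by
    rw [← GenusOneSSLib.inj_proj_self (0 : Fin (r + 1)), h0.eq_of_tgt (GenusOneSSLib.inj _ 0) 0, zero_comp]
  have h2 := congrArg (fun f => Scheme.Modules.Hom.app f ⊤
    (GenusOneSSLib.oneS (U : Scheme.{u}))) h1
  exact one_ne_zero (α := Γ((U : Scheme.{u}), ⊤)) h2

variable (n : ℕ) (k : Type u) [Field k]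

local notation "P" => CohB1.ProjSpace n k
local notation "O'" => Twist.twistProjSpace n k
local notation "Ω'" => Omega.sheaf (CohB1.ProjSpace.toSpec n k)
local notation "Ω₁" => CohB1.tensorMod (Omega.sheaf (CohB1.ProjSpace.toSpec n k)) (Twist.twistProjSpace n k 1)
local notation "T" => CurvLib.tensorLeft' (Twist.twistProjSpace n k (-1))

/-- `H⁰(Ω(1)) = 0`. -/
theorem h0_omega_one : Subsingleton (Coh.HH P Ω₁ 0) := by
  by_contra h
  obtain ⟨s, hs⟩ := VBPnLib.exists_hom_of_h0 k n Ω' 1 h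
  choose c hc using fun j => exists_scalar n k (PicPnLib.twist_inv n k (-1)) (s ≫ epsC n k j)
  have h1 : ∑ j, c j • mulXHom n k j = 0 := by
    refine Eq.trans ?_ ((congrArg (s ≫ ·) (sum_eps_mulX n k)).trans comp_zero)
    rw [Preadditive.comp_sum]
    refine Finset.sum_congr rfl fun j _ => ?_
    rw [← Category.assoc, hc j, Linear.smul_comp, Category.id_comp]
  have hc0 := forms_injective n k c h1
  exact hs (eps_ext n k fun j => by rw [hc j, hc0, Pi.zero_apply, zero_smul, zero_comp])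


/-- The defining sequence. -/
theorem shortExact_cokernel (w : O' (-1) ⟶ Ω₁) [Mono w] : (ShortComplex.mk w (cokernel.π w) (cokernel.condition w)).ShortExact where
  exact := ShortComplex.exact_of_g_is_cokernel _ (cokernelIsCokernel w)

/-- `H⁰` of the quotient vanishes. -/
theorem h0_cokernel (w : O' (-1) ⟶ Ω₁) [Mono w] : Subsingleton (Coh.HH P (cokernel w) 0) := by
  haveI := h0_omega_one n k
  haveI := PnCohLib.subsingleton_HH_twist (n := n) (R := k) (-1) (0 + 1) (by omega) (by omega)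
  have hS := shortExact_cokernel n k w
  have hs : Function.Surjective (hMap (k := k) (cokernel.π w) 0) := fun y => by
    refine LinearMap.mem_range.1 ?_
    rw [CurvLib.exact₃ hS 0, LinearMap.mem_ker]
    exact Subsingleton.elim _ _
  exact hs.subsingleton

theorem exists_untwist : Nonempty ((T).obj Ω₁ ≅ Ω') := by
  obtain ⟨e⟩ := PicPnLib.twist_add n k 1 (-1)
  obtain ⟨e0⟩ := PicPnLib.twist_zero n k
  exact ⟨HilbPolyLib.swapIso _ _ ≪≫ HilbPolyLib.assocIso _ _ _ ≪≫
    HilbPolyLib.congrRight _ (e ≪≫ eqToIso (congrArg O' (add_neg_cancel 1)) ≪≫ e0) ≪≫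
      HilbPolyLib.swapIso _ _ ≪≫ HilbPolyLib.unitLeft _⟩

theorem T_map_smul {M : (CohB1.ProjSpace n k).Modules} (c : k) : (T).map (c • 𝟙 M) = c • 𝟙 ((T).obj M) := by
  change (T).map (Formal.smulMod k M c ≫ 𝟙 M) = Formal.smulMod k ((T).obj M) c ≫ 𝟙 _
  rw [Category.comp_id, Category.comp_id]
  exact PnDualLib.tensorLeft_smulHom _ M _

/-- Every class of `H¹(Ω)` is a multiple of one of them. -/
theorem exists_h1_gen : ∃ η : Coh.HH P Ω' 1, ∀ y, ∃ c : k, y = c • η := by
  obtain ⟨e⟩ := PicPnLib.twist_zero n k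
  let x₀ := GenusOneSSLib.homEquiv (k := k) (O' 0) e.inv
  refine ⟨hDel (k := k) (euler_shortExact n k) 0 x₀, fun y => ?_⟩
  have hy : y ∈ LinearMap.range (hDel (k := k) (euler_shortExact n k) 0) := by
    rw [CurvLib.exact₁ (euler_shortExact n k) 0, LinearMap.mem_ker]
    haveI : Subsingleton (Coh.HH P (mid n k) (0 + 1)) :=
      PnCohLib.subsingleton_HH_biproduct (k := k) (fun _ : Fin (n + 1) => O' (-1)) (𝟭 _) (0 + 1) fun _ =>
        PnCohLib.subsingleton_HH_twist (n := n) (R := k) (-1) (0 + 1) (by omega) (by omega)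
    exact Subsingleton.elim _ _
  obtain ⟨z, rfl⟩ := hy
  obtain ⟨h, rfl⟩ := (GenusOneSSLib.homEquiv (k := k) (O' 0)).surjective z
  obtain ⟨c, hc⟩ := exists_scalar n k (PicPnLib.twist_inv n k 0) (e.hom ≫ h)
  refine ⟨c, ?_⟩
  rw [← map_smul, ← map_smul]
  congr 2
  rw [← Iso.inv_hom_id_assoc e h, hc, Linear.comp_smul, Category.comp_id]

/-- Maps out of `Ω` into the untwisted quotient are multiples of the projection. -/
theorem exists_mult (w : O' (-1) ⟶ Ω₁) [Mono w] (hn : n ≠ 2) (ω : (T).obj Ω₁ ≅ Ω') (g : Ω' ⟶ (T).obj (cokernel w)) :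
    ∃ c : k, g = c • (ω.inv ≫ (T).map (cokernel.π w)) := by
  haveI := VBPnLib.isEquivalence_twist k n (-1)
  obtain ⟨e⟩ := PicPnLib.twist_zero n k
  obtain ⟨η, hη⟩ := exists_h1_gen n k
  let π' : Ω' ⟶ (T).obj (cokernel w) := ω.inv ≫ (T).map (cokernel.π w)
  have hS' := ((shortExact_cokernel n k w).map_of_exact (T))
  have hsurj : ∀ y : Coh.HH P ((T).obj (cokernel w)) 1, ∃ x, hMap (k := k) π' 1 x = y := by
    intro y
    haveI : Subsingleton (Coh.HH P ((T).obj (O' (-1))) (1 + 1)) := by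
      obtain ⟨e'⟩ := PicPnLib.twist_add n k (-1) (-1)
      exact SerreVanLib.subsingleton_HH_of_iso e' _ (PnCohLib.subsingleton_HH_twist _ _ (by omega) (by omega))
    have hy : y ∈ LinearMap.range (hMap (k := k) ((T).map (cokernel.π w)) 1) := by
      rw [show LinearMap.range (hMap (k := k) ((T).map (cokernel.π w)) 1) = _ from CurvLib.exact₃ hS' 1,
        LinearMap.mem_ker]
      exact @Subsingleton.elim _ this _ _
    obtain ⟨z, rfl⟩ := hy
    exact ⟨hMap (k := k) ω.hom 1 z, by rw [← hMap_comp, Iso.hom_inv_id_assoc]⟩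
  obtain ⟨y, hy⟩ := hsurj (hMap (k := k) g 1 η)
  obtain ⟨c, rfl⟩ := hη y
  refine ⟨c, sub_eq_zero.1 ?_⟩
  have hz : ∀ x, hMap (k := k) (g - c • π') 1 (hDel (k := k) (euler_shortExact n k) 0 x) = 0 := fun x => by
    obtain ⟨d, hd⟩ := hη (hDel (k := k) (euler_shortExact n k) 0 x)
    rw [hd, map_smul]
    have h1 : hMap (k := k) (g - c • π') 1 η = 0 := by
      show GenusOneSSLib.hMapL (k := k) 1 η (g - c • π') = 0
      rw [map_sub, map_smul]
      show hMap (k := k) g 1 η - c • hMap (k := k) π' 1 η = 0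
      rw [← map_smul, hy, sub_self]
    rw [h1, smul_zero]
  obtain ⟨β, hβ⟩ := exists_extend k (euler_shortExact n k) e (g - c • π') hz
  obtain ⟨τ⟩ : Nonempty ((T).obj (Coh.structureModule P) ≅ O' (-1)) :=
    ⟨HilbPolyLib.swapIso _ _ ≪≫ HilbPolyLib.unitLeft _⟩
  haveI := h0_cokernel n k w
  haveI := VBPnLib.subsingleton_hom k (cokernel w) inferInstance
  have hβ0 : β = 0 := biproduct.hom_ext' _ _ fun j => by
    rw [comp_zero, ← cancel_epi τ.hom, comp_zero]
    obtain ⟨f, hf⟩ := (T).map_surjective (τ.hom ≫ biproduct.ι (fun _ : Fin (n + 1) => O' (-1)) j ≫ β)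
    rw [← hf, Subsingleton.elim f 0, Functor.map_zero]
  rw [← hβ, hβ0, comp_zero]

/-- Maps `Ω(1) → M` are multiples of the projection. -/
theorem exists_mult' (w : O' (-1) ⟶ Ω₁) [Mono w] (hn : n ≠ 2) (f : Ω₁ ⟶ cokernel w) : ∃ c : k, f = c • cokernel.π w := by
  haveI := VBPnLib.isEquivalence_twist k n (-1)
  obtain ⟨ω⟩ := exists_untwist n k
  obtain ⟨c, hc⟩ := exists_mult n k w hn ω (ω.inv ≫ (T).map f)
  refine ⟨c, (T).map_injective ((cancel_epi ω.inv).1 (hc.trans ?_))⟩
  rw [show c • cokernel.π w = cokernel.π w ≫ (c • 𝟙 _) by rw [Linear.comp_smul, Category.comp_id],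
    Functor.map_comp, T_map_smul, Linear.comp_smul, Category.comp_id, Linear.comp_smul]

/-- The quotient is simple. -/
theorem cokernel_simple (w : O' (-1) ⟶ Ω₁) [Mono w] (hM : FlatMod.IsFinLocFreeOfRank (n - 1) (cokernel w)) (φ : cokernel w ⟶ cokernel w) :
    ∃ c : k, φ = c • 𝟙 (cokernel w) := by
  by_cases hn : n = 2
  · subst hn
    exact exists_scalar 2 k (GrassSch.isInvertible_of_rank_one hM) φ
  · obtain ⟨c, hc⟩ := exists_mult' n k w hn (cokernel.π w ≫ φ)
    exact ⟨c, (cancel_epi (cokernel.π w)).1 (by rw [hc, Linear.comp_smul, Category.comp_id])⟩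

/-- Isomorphic quotients come from proportional maps. -/
theorem proportional (hn : n ≠ 2) (a a' : O' (-1) ⟶ Ω₁) [Mono a] [Mono a']
    (hne : ¬ IsZero (cokernel a)) (e : cokernel a ≅ cokernel a') : ∃ c : k, c ≠ 0 ∧ a' = a ≫ (c • 𝟙 Ω₁) := by
  obtain ⟨c, hc⟩ := exists_mult' n k a' hn (cokernel.π a ≫ e.hom)
  have hc0 : c ≠ 0 := fun h0 => by
    rw [h0, zero_smul] at hc
    refine hne ((IsZero.iff_id_eq_zero _).2 ((cancel_epi (cokernel.π a)).1 ?_))
    rw [comp_zero, Category.comp_id]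
    exact (cancel_mono e.hom).1 (hc.trans zero_comp.symm)
  have h1 : a ≫ cokernel.π a' = 0 := by
    have h2 : c • (a ≫ cokernel.π a') = 0 := by
      rw [← Linear.comp_smul, ← hc, cokernel.condition_assoc, zero_comp]
    exact (smul_eq_zero.1 h2).resolve_left hc0
  let t : O' (-1) ⟶ O' (-1) := (shortExact_cokernel n k a').exact.lift a h1
  have ht : t ≫ a' = a := (shortExact_cokernel n k a').exact.lift_f a h1
  obtain ⟨d, hd⟩ := exists_scalar n k (PicPnLib.twist_inv n k (-1)) t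
  have hd0 : d ≠ 0 := fun h0 => by
    rw [hd, h0, zero_smul, zero_comp] at ht
    have h3 : (𝟙 (O' (-1))) = 0 := (cancel_mono a).1 (by rw [← ht, comp_zero, zero_comp])
    obtain ⟨v, hv⟩ := VBPnLib.exists_twist_hom k n (le_refl (-1 : ℤ))
    exact hv (by rw [← Category.comp_id v, h3, comp_zero])
  refine ⟨d⁻¹, inv_ne_zero hd0, ?_⟩
  rw [Linear.comp_smul, Category.comp_id, ← ht, hd, Linear.smul_comp, Category.id_comp, smul_smul,
    inv_mul_cancel₀ hd0, one_smul]

/-- Proportional maps have isomorphic quotients. -/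
theorem nonempty_iso_of_proportional (a a' : O' (-1) ⟶ Ω₁) {c : k} (hc : c ≠ 0) (h : a' = a ≫ (c • 𝟙 Ω₁)) :
    Nonempty (cokernel a ≅ cokernel a') := by
  let i : Ω₁ ≅ Ω₁ :=
    { hom := c • 𝟙 _
      inv := c⁻¹ • 𝟙 _
      hom_inv_id := by rw [Linear.comp_smul, Linear.smul_comp, Category.id_comp, smul_smul, inv_mul_cancel₀ hc, one_smul]
      inv_hom_id := by rw [Linear.comp_smul, Linear.smul_comp, Category.id_comp, smul_smul, mul_inv_cancel₀ hc, one_smul] }
  exact ⟨cokernel.mapIso a a' (Iso.refl _) i (by rw [Iso.refl_hom, Category.id_comp, h])⟩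

end EulerPnLib
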