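import Groth.Agent.EulerPnLib.NullCor
import Groth.Agent.VBHypLib.Seq
import Groth.Agent.ProjBunLib.Ses
import Groth.Agent.KFlatLib.FreeModel
import Mathlib.RingTheory.Polynomial.Basic
import Mathlib.RingTheory.Localization.FractionRing

/-!
# The restriction of the cotangent sheaf of `P^n` to a linearly embedded `P^m`
-/

set_option autoImplicit false
set_option linter.style.haveILetI false
set_option linter.unusedSectionVars false
set_option maxHeartbeats 1000000
set_option backward.isDefEq.respectTransparency false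
set_option backward.isDefEq.respectTransparency.types false
universe u

open CategoryTheory CategoryTheory.Limits AlgebraicGeometry TopologicalSpace Opposite
open GradedCechLib (Poly)

noncomputable section

namespace EulerPnLib

section Mat

variable {C : Type*} [Category C] [Preadditive C] [HasFiniteBiproducts C] {k : Type u} [Field k] [Linear k C] (M : C)
  {a b c : ℕ}

/-- A linear map of coordinate spaces as a map of sums of copies of `M`. -/
def lmat (f : (Fin a → k) →ₗ[k] (Fin b → k)) : (⨁ fun _ : Fin a => M) ⟶ ⨁ fun _ : Fin b => M :=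
  biproduct.desc fun i => ∑ j, f (Pi.single i 1) j • biproduct.ι (fun _ : Fin b => M) j

theorem lmat_id : lmat M (LinearMap.id : (Fin a → k) →ₗ[k] (Fin a → k)) = 𝟙 _ := by
  classical
  refine biproduct.hom_ext' _ _ fun i => ?_
  rw [lmat, biproduct.ι_desc, Category.comp_id, Finset.sum_eq_single i]
  · rw [LinearMap.id_apply, Pi.single_eq_same, one_smul]
  · intro j _ hj
    rw [LinearMap.id_apply, Pi.single_eq_of_ne hj, zero_smul]
  · exact fun h => (h (Finset.mem_univ i)).elim

theorem lmat_zero : lmat M (0 : (Fin a → k) →ₗ[k] (Fin b → k)) = 0 := by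
  refine biproduct.hom_ext' _ _ fun i => ?_
  rw [lmat, biproduct.ι_desc, comp_zero]
  simp

theorem lmat_add (f g : (Fin a → k) →ₗ[k] (Fin b → k)) : lmat M (f + g) = lmat M f + lmat M g := by
  refine biproduct.hom_ext' _ _ fun i => ?_
  simp only [lmat, biproduct.ι_desc, Preadditive.comp_add, LinearMap.add_apply, Pi.add_apply, add_smul,
    Finset.sum_add_distrib]

theorem lmat_desc (f : (Fin a → k) →ₗ[k] (Fin b → k)) {N : C} (g : Fin b → (M ⟶ N)) :
    lmat M f ≫ biproduct.desc g = biproduct.desc fun i => ∑ j, f (Pi.single i 1) j • g j := by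
  refine biproduct.hom_ext' _ _ fun i => ?_
  simp only [lmat, biproduct.ι_desc_assoc, biproduct.ι_desc, Preadditive.sum_comp, Linear.smul_comp]

theorem lmat_comp (f : (Fin a → k) →ₗ[k] (Fin b → k)) (g : (Fin b → k) →ₗ[k] (Fin c → k)) :
    lmat M f ≫ lmat M g = lmat M (g ∘ₗ f) := by
  classical
  conv_lhs => arg 2; rw [lmat]
  rw [lmat_desc, lmat]
  congr 1
  funext i
  simp only [Finset.smul_sum, smul_smul]
  rw [Finset.sum_comm]
  refine Finset.sum_congr rfl fun l _ => ?_
  rw [← Finset.sum_smul, LinearMap.comp_apply]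
  congr 1
  conv_rhs => rw [pi_eq_sum_univ' (f (Pi.single i 1)), map_sum]
  simp only [map_smul, Finset.sum_apply, Pi.smul_apply, smul_eq_mul]

end Mat

variable {k : Type u} [Field k]

/-- The point of projective space with given coordinates kills the forms vanishing there: some form of a family
with a common zero is not a unit in the local ring. -/
theorem not_epi_of_common_zero {m N : ℕ} (h : Fin N → (Fin (m + 1) → k)) (v : Fin (m + 1) → k) (hv : v ≠ 0)
    (h0 : ∀ j, ∑ l, h j l * v l = 0) :
    ¬ Epi (biproduct.desc fun j => ∑ l, h j l • mulXHom m k l) := by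
  classical
  intro hepi
  let φ : Poly m k →ₐ[k] Polynomial k := MvPolynomial.aeval fun l => Polynomial.C (v l) * Polynomial.X
  have hhom : ∀ (d : ℕ) (p : Poly m k), p.IsHomogeneous d →
      φ p = Polynomial.C (MvPolynomial.eval v p) * Polynomial.X ^ d := by
    intro d p hp
    conv_lhs => rw [p.as_sum]
    rw [map_sum, MvPolynomial.eval_eq, map_sum, Finset.sum_mul]
    refine Finset.sum_congr rfl fun e he => ?_
    have hd : e.degree = d := by
      by_contra hne
      exact MvPolynomial.mem_support_iff.1 he (hp.coeff_eq_zero hne)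
    show MvPolynomial.aeval _ _ = _
    rw [MvPolynomial.aeval_monomial, Finsupp.prod]
    simp only [mul_pow, Finset.prod_mul_distrib, ← map_pow, ← map_prod, Finset.prod_pow_eq_pow_sum]
    rw [← hd, map_mul, Finsupp.degree_apply, ← Polynomial.C_eq_algebraMap, mul_assoc]
  have hI : (RingHom.ker (φ : Poly m k →+* Polynomial k)).IsHomogeneous (CohB1.polyGrading m k) := by
    intro i p hp
    rw [RingHom.mem_ker] at hp ⊢
    change φ p = 0 at hp
    change φ (DirectSum.decompose (CohB1.polyGrading m k) p i : Poly m k) = 0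
    have hq : ∀ j, φ (DirectSum.decompose (CohB1.polyGrading m k) p j : Poly m k) =
        Polynomial.C (MvPolynomial.eval v (DirectSum.decompose (CohB1.polyGrading m k) p j : Poly m k)) *
          Polynomial.X ^ j := fun j =>
      hhom j _ ((MvPolynomial.mem_homogeneousSubmodule _ _).1 (SetLike.coe_mem _))
    have h1 := congrArg (fun q => Polynomial.coeff q i)
      ((congrArg φ (DirectSum.sum_support_decompose (CohB1.polyGrading m k) p)).trans hp)
    simp only [map_sum, hq, Polynomial.finsetSum_coeff, Polynomial.coeff_C_mul_X_pow, Polynomial.coeff_zero,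
      Finset.sum_ite_eq] at h1
    rw [hq i]
    split_ifs at h1 with hi
    · rw [h1, map_zero, zero_mul]
    · rw [DFinsupp.notMem_support_iff.1 hi]
      simp
  obtain ⟨a, ha⟩ : ∃ a, v a ≠ 0 := Function.ne_iff.1 hv
  let x : CohB1.ProjSpace m k :=
    ({ asHomogeneousIdeal := ⟨RingHom.ker (φ : Poly m k →+* Polynomial k), hI⟩
       isPrime := RingHom.ker_isPrime _
       not_irrelevant_le := fun hle => by
         have hX : (MvPolynomial.X a : Poly m k) ∈ HomogeneousIdeal.irrelevant (CohB1.polyGrading m k) := by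
           rw [HomogeneousIdeal.mem_irrelevant_iff, GradedRing.proj_apply,
             DirectSum.decompose_of_mem_ne _ (GradedCechLib.X_mem m k a) one_ne_zero]
         have h2 : φ (MvPolynomial.X a) = 0 := hle hX
         rw [MvPolynomial.aeval_X] at h2
         exact mul_ne_zero (Polynomial.C_ne_zero.2 ha) Polynomial.X_ne_zero h2 } :
      ProjectiveSpectrum (CohB1.polyGrading m k))
  haveI hxp : (x : ProjectiveSpectrum (CohB1.polyGrading m k)).asHomogeneousIdeal.toIdeal.IsPrime :=
    (x : ProjectiveSpectrum (CohB1.polyGrading m k)).isPrime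
  let ι : Poly m k →+* FractionRing (Polynomial k) := (algebraMap _ _).comp (φ : Poly m k →+* Polynomial k)
  have hu : ∀ y : x.asHomogeneousIdeal.toIdeal.primeCompl, IsUnit (ι y) := fun y =>
    isUnit_iff_ne_zero.2 fun h1 => y.2 ((IsFractionRing.to_map_eq_zero_iff).1 h1)
  let ψ : Twist.Loc (CohB1.polyGrading m k) x →+* FractionRing (Polynomial k) := IsLocalization.lift hu
  let g := biproduct.desc fun j => ∑ l, h j l • mulXHom m k l
  have hs : Function.Surjective ((DevissLib.St x).map g).hom := by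
    haveI : Epi g := hepi
    exact (ModuleCat.epi_iff_surjective _).1 inferInstance
  obtain ⟨z, hz⟩ := hs (DevissLib.gm _ x (show x ∈ (⊤ : (CohB1.ProjSpace m k).Opens) from trivial) (one₀ m k).sec)
  obtain ⟨U, hxU, s, rfl⟩ := DevissLib.exists_gm_eq _ x z
  rw [DevissLib.gm_app] at hz
  obtain ⟨W, hxW, iU, iT, he⟩ := TopCat.Presheaf.germ_eq _ x hxU (show x ∈ (⊤ : (CohB1.ProjSpace m k).Opens) from trivial) _ _ hz
  have h1 := congrArg (fun t => ψ (TwistLib.val t (⟨x, hxW⟩ : W))) he
  change ψ (TwistLib.val (g.app U s) ⟨x, hxU⟩) = ψ (TwistLib.val (one₀ m k).sec ⟨x, trivial⟩) at h1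
  rw [show TwistLib.val (one₀ m k).sec (⟨x, trivial⟩ : (⊤ : (CohB1.ProjSpace m k).Opens)) = 1 from
    Localization.mk_one, map_one] at h1
  have hg : g = ∑ j, biproduct.π (fun _ : Fin N => Twist.twistProjSpace m k (-1)) j ≫
      ∑ l, h j l • mulXHom m k l := biproduct.desc_eq
  rw [hg, app_sum, val_sum, map_sum, Finset.sum_eq_zero fun j _ => ?_] at h1
  · exact zero_ne_one h1
  · rw [app_comp', app_sum, val_sum, map_sum]
    refine Eq.trans (Finset.sum_congr rfl fun l _ => ?_) ((Finset.sum_mul _ _ _).symm.trans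
      ((congrArg (· * ψ (TwistLib.val ((biproduct.π (fun _ : Fin N => Twist.twistProjSpace m k (-1)) j).app U s)
        ⟨x, hxU⟩)) (show ∑ l, algebraMap (Polynomial k) (FractionRing (Polynomial k))
          (Polynomial.C (h j l * v l) * Polynomial.X) = 0 by
            rw [← map_sum, ← Finset.sum_mul, ← map_sum, h0 j, map_zero, zero_mul, map_zero])).trans (zero_mul _)))
    rw [val_smul_app, val_mulXel, ← mul_assoc, map_mul ψ]
    congr 1
    rw [← map_mul, IsLocalization.lift_eq]
    show algebraMap _ _ (φ _) = _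
    rw [map_mul φ, MvPolynomial.aeval_C, MvPolynomial.aeval_X, map_mul Polynomial.C, mul_assoc]
    rfl

/-- The cotangent sheaf of `P^n` restricted along a map of degree one from `P^m`. -/
theorem pb_omega (m n : ℕ) (i : CohB1.ProjSpace m k ⟶ CohB1.ProjSpace n k)
    (hO : Nonempty ((Scheme.Modules.pullback i).obj (Twist.twistProjSpace n k 1) ≅ Twist.twistProjSpace m k 1)) :
    Nonempty ((Scheme.Modules.pullback i).obj (Omega.sheaf (CohB1.ProjSpace.toSpec n k)) ≅
      Omega.sheaf (CohB1.ProjSpace.toSpec m k) ⊞ ⨁ fun _ : Fin (n - m) => Twist.twistProjSpace m k (-1)) := by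
  classical
  let M := Twist.twistProjSpace m k (-1)
  let Φ := Scheme.Modules.pullback i
  haveI : Φ.Additive := (Scheme.Modules.pullbackPushforwardAdjunction i).left_adjoint_additive
  obtain ⟨e1⟩ := VBHyp.pb_twist i hO (-1)
  obtain ⟨e0⟩ := VBHyp.pb_twist i hO 0
  have hS := ProjBunLib.shortExact_pullback i (euler_shortExact n k) (VBPnLib.twist_rank k n 0)
  choose L₀ hL₀ using fun j => exists_forms m k (e1.inv ≫ Φ.map (mulXHom n k j) ≫ e0.hom)
  let L : (Fin (n + 1) → k) →ₗ[k] (Fin (m + 1) → k) :=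
    { toFun := fun z l => ∑ j, z j * L₀ j l
      map_add' := fun z z' => funext fun l => by simp [add_mul, Finset.sum_add_distrib]
      map_smul' := fun c z => funext fun l => by simp [Finset.mul_sum, mul_assoc] }
  have hL : ∀ j l, L (Pi.single j 1) l = L₀ j l := fun j l => by
    show ∑ j', Pi.single (M := fun _ : Fin (n + 1) => k) j 1 j' * L₀ j' l = _
    simp [Pi.single_apply]
  let β : (⨁ fun _ : Fin (n + 1) => M) ≅ Φ.obj (mid n k) :=
    biproduct.mapIso (fun _ : Fin (n + 1) => e1.symm) ≪≫ (Φ.mapBiproduct _).symm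
  let g' := biproduct.desc fun j => ∑ l, L₀ j l • mulXHom m k l
  have hg : β.hom ≫ Φ.map (sigma n k) ≫ e0.hom = g' := biproduct.hom_ext' _ _ fun j => by
    rw [biproduct.ι_desc, ← hL₀ j]
    simp only [β, Iso.trans_hom, Category.assoc, biproduct.mapIso_hom, biproduct.ι_map_assoc, Iso.symm_hom]
    refine congrArg (e1.inv ≫ ·) ?_
    rw [← Category.assoc, ← Category.assoc]
    refine congrArg (· ≫ e0.hom) ?_
    rw [Functor.mapBiproduct_inv, biproduct.ι_desc, ← Φ.map_comp, sigma, biproduct.ι_desc]
  haveI hepi : Epi g' := by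
    haveI : Epi (Φ.map (sigma n k)) := hS.epi_g
    rw [← hg]
    infer_instance
  have hsurj : Function.Surjective L := by
    rw [← LinearMap.range_eq_top]
    by_contra hne
    obtain ⟨f, hf0, hf⟩ := Submodule.exists_dual_map_eq_bot_of_lt_top (lt_top_iff_ne_top.2 hne) inferInstance
    have hf' : ∀ w, f w = ∑ l, w l * f (Pi.single l 1) := fun w => by
      conv_lhs => rw [pi_eq_sum_univ' w, map_sum]
      simp only [map_smul, smul_eq_mul]
    refine not_epi_of_common_zero L₀ (fun l => f (Pi.single l 1)) (fun h0 => hf0 (LinearMap.ext fun w => ?_))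
      (fun j => ?_) hepi
    · rw [hf', LinearMap.zero_apply]
      exact Finset.sum_eq_zero fun l _ => by rw [congrFun h0 l, Pi.zero_apply, mul_zero]
    · have h1 : f (L (Pi.single j 1)) ∈ Submodule.map f (LinearMap.range L) := ⟨_, ⟨_, rfl⟩, rfl⟩
      rw [hf, Submodule.mem_bot, hf'] at h1
      simpa [hL] using h1
  obtain ⟨R, hR⟩ := LinearMap.exists_rightInverse_of_surjective L (LinearMap.range_eq_top.2 hsurj)
  have hdim : Module.finrank k (LinearMap.ker L) = n - m := by
    have h1 := L.finrank_range_add_finrank_ker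
    rw [LinearMap.range_eq_top.2 hsurj, finrank_top, Module.finrank_fin_fun, Module.finrank_fin_fun] at h1
    omega
  let B := (Module.finBasisOfFinrankEq k (LinearMap.ker L) hdim).equivFun
  let K : (Fin (n - m) → k) →ₗ[k] (Fin (n + 1) → k) := (LinearMap.ker L).subtype ∘ₗ B.symm.toLinearMap
  let Q₀ := LinearMap.codRestrict (LinearMap.ker L) (LinearMap.id - R ∘ₗ L) fun z => by
    have h1 := LinearMap.congr_fun hR (L z)
    simp only [LinearMap.comp_apply, LinearMap.id_apply] at h1
    rw [LinearMap.mem_ker, LinearMap.sub_apply, LinearMap.id_apply, LinearMap.comp_apply, map_sub, h1, sub_self]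
  let Q : (Fin (n + 1) → k) →ₗ[k] (Fin (n - m) → k) := B.toLinearMap ∘ₗ Q₀
  have hLK : L ∘ₗ K = 0 := LinearMap.ext fun z => (B.symm z).2
  have hQR : Q ∘ₗ R = 0 := LinearMap.ext fun z => by
    have h1 := LinearMap.congr_fun hR z
    simp only [LinearMap.comp_apply, LinearMap.id_apply] at h1
    refine B.map_eq_zero_iff.2 (Subtype.ext ?_)
    show R z - R (L (R z)) = 0
    rw [h1, sub_self]
  have hQK : Q ∘ₗ K = LinearMap.id := LinearMap.ext fun z => by
    refine (B.apply_eq_iff_eq_symm_apply).2 (Subtype.ext ?_)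
    show (B.symm z : Fin (n + 1) → k) - R (L (B.symm z : Fin (n + 1) → k)) = _
    rw [show L (B.symm z : Fin (n + 1) → k) = 0 from (B.symm z).2, map_zero, sub_zero]
    rfl
  have hsum : R ∘ₗ L + K ∘ₗ Q = LinearMap.id := LinearMap.ext fun z => by
    show R (L z) + ((B.symm (B (Q₀ z)) : LinearMap.ker L) : Fin (n + 1) → k) = z
    rw [B.symm_apply_apply]
    exact add_sub_cancel (R (L z)) z
  let φ : (⨁ fun _ : Fin (n + 1) => M) ≅ mid m k ⊞ ⨁ fun _ : Fin (n - m) => M :=
    { hom := biprod.lift (lmat M L) (lmat M Q)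
      inv := biprod.desc (lmat M R) (lmat M K)
      hom_inv_id := by rw [biprod.lift_desc, lmat_comp, lmat_comp, ← lmat_add, hsum, lmat_id]
      inv_hom_id := by
        apply biprod.hom_ext' <;> apply biprod.hom_ext <;>
          simp only [Category.assoc, biprod.inl_desc_assoc, biprod.inr_desc_assoc, biprod.lift_fst, biprod.lift_snd,
            Category.comp_id, biprod.inl_fst, biprod.inl_snd, biprod.inr_fst, biprod.inr_snd, lmat_comp, hR, hQR, hLK,
            hQK, lmat_id, lmat_zero]
        all_goals rfl }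
  have hφ : φ.hom ≫ biprod.fst ≫ sigma m k = g' := by
    rw [← Category.assoc, show φ.hom ≫ biprod.fst = lmat M L from biprod.lift_fst _ _]
    refine (lmat_desc M L (mulXHom m k)).trans ?_
    simp only [hL]
    rfl
  -- both are kernels of the same map
  have hSm := euler_shortExact m k
  haveI := hS.mono_f
  haveI := hSm.mono_f
  let f' : Φ.obj (Omega.sheaf (CohB1.ProjSpace.toSpec n k)) ⟶ mid m k ⊞ ⨁ fun _ : Fin (n - m) => M :=
    Φ.map (eps n k) ≫ β.inv ≫ φ.hom
  haveI : Mono (Φ.map (eps n k)) := hS.mono_f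
  haveI : IsIso φ.hom := Iso.isIso_hom φ
  haveI : Mono (β.inv ≫ φ.hom) := mono_comp _ _
  haveI : Mono f' := mono_comp (Φ.map (eps n k)) _
  have hz : Φ.map (sigma n k) = β.inv ≫ φ.hom ≫ biprod.fst ≫ sigma m k ≫ e0.inv := by
    rw [← reassoc_of% hφ.symm, ← hg]
    simp
  have h1 : (f' ≫ biprod.fst) ≫ sigma m k = 0 := by
    rw [← cancel_mono e0.inv, zero_comp]
    simp only [f', Category.assoc]
    rw [← hz]
    exact ((eulerSeq n k).map Φ).zero
  have h2 : ∀ {A : (CohB1.ProjSpace m k).Modules} (w : A ⟶ mid m k ⊞ ⨁ fun _ : Fin (n - m) => M),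
      (w ≫ biprod.fst) ≫ sigma m k = 0 → (w ≫ φ.inv ≫ β.hom) ≫ Φ.map (sigma n k) = 0 := fun w hw => by
    rw [hz]
    simp only [Category.assoc, Iso.hom_inv_id_assoc, Iso.inv_hom_id_assoc]
    rw [reassoc_of% hw, zero_comp]
  let G := biprod.map (eps m k) (𝟙 (⨁ fun _ : Fin (n - m) => M))
  let fwd : Φ.obj (Omega.sheaf (CohB1.ProjSpace.toSpec n k)) ⟶
      Omega.sheaf (CohB1.ProjSpace.toSpec m k) ⊞ ⨁ fun _ : Fin (n - m) => M :=
    biprod.lift (hSm.exact.lift (f' ≫ biprod.fst) h1) (f' ≫ biprod.snd)
  have hfwd : fwd ≫ G = f' := by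
    apply biprod.hom_ext
    · rw [Category.assoc, biprod.map_fst, biprod.lift_fst_assoc]
      exact hSm.exact.lift_f _ h1
    · rw [Category.assoc, biprod.map_snd, biprod.lift_snd_assoc, Category.comp_id]
  have hG : (G ≫ biprod.fst) ≫ sigma m k = 0 := by
    rw [biprod.map_fst, Category.assoc, eps_sigma, comp_zero]
  let bwd := hS.exact.lift (G ≫ φ.inv ≫ β.hom) (h2 G hG)
  have hbwd : bwd ≫ f' = G := by
    show bwd ≫ Φ.map (eps n k) ≫ β.inv ≫ φ.hom = G
    rw [← Category.assoc, show bwd ≫ Φ.map (eps n k) = G ≫ φ.inv ≫ β.hom from hS.exact.lift_f _ _]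
    simp
  haveI : Mono G := inferInstance
  exact ⟨⟨fwd, bwd, (cancel_mono f').1 (by rw [Category.assoc, hbwd, hfwd, Category.id_comp]),
    (cancel_mono G).1 (by rw [Category.assoc, hfwd, hbwd, Category.id_comp])⟩⟩

end EulerPnLib
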