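import Groth.Agent.EulerPnLib.Deriv
import Groth.Agent.OmegaPnLib.Main
import Groth.Agent.AdjFormLib.PnTop
import Groth.Agent.GrModLib6.Rel
import Groth.Agent.OmegaAffLib.Exact
import Groth.Agent.ProjCohTwLib.Main

/-!
# The Euler sequence `0 → Ω → O(-1)^(n+1) → O → 0` on projective space
-/

set_option autoImplicit false
set_option linter.style.haveILetI false
set_option linter.unusedSectionVars false
set_option maxHeartbeats 1000000
set_option backward.isDefEq.respectTransparency false
set_option backward.isDefEq.respectTransparency.types false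
universe u

open CategoryTheory CategoryTheory.Limits AlgebraicGeometry TopologicalSpace Opposite
open MvPolynomial (pderiv)
open GradedCechLib (deh deh₀ Poly resO cstOn toSec xpw X_mem)

noncomputable section

namespace EulerPnLib

section Biprod

variable {X : Scheme.{u}} {ι : Type} [Fintype ι] (F : ι → X.Modules)

theorem app_comp' {A B C : X.Modules} (f : A ⟶ B) (g : B ⟶ C) (V : X.Opens) (s : Γ(A, V)) :
    (f ≫ g).app V s = g.app V (f.app V s) := rfl

theorem app_sum {A B : X.Modules} (s : Finset ι) (φ : ι → (A ⟶ B)) (V : X.Opens) (a : Γ(A, V)) :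
    (∑ i ∈ s, φ i).app V a = ∑ i ∈ s, (φ i).app V a := by
  classical
  induction s using Finset.induction_on with
  | empty => simp only [Finset.sum_empty]; rfl
  | insert i s hi ih =>
    rw [Finset.sum_insert hi, Finset.sum_insert hi, ← ih]
    rfl

/-- A section of a finite direct sum with prescribed components. -/
def tuple {V : X.Opens} (s : ∀ i, Γ(F i, V)) : Γ(⨁ F, V) := ∑ i, (biproduct.ι F i).app V (s i)

theorem π_tuple {V : X.Opens} (s : ∀ i, Γ(F i, V)) (j : ι) : (biproduct.π F j).app V (tuple F s) = s j := by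
  classical
  rw [tuple, map_sum, Finset.sum_eq_single j]
  · rw [← app_comp', biproduct.ι_π_self]; rfl
  · intro i _ hi
    rw [← app_comp', biproduct.ι_π_ne _ hi]; rfl
  · exact fun h => (h (Finset.mem_univ j)).elim

theorem biprod_ext {V : X.Opens} {v w : Γ(⨁ F, V)}
    (h : ∀ j, (biproduct.π F j).app V v = (biproduct.π F j).app V w) : v = w := by
  have e : ∀ z : Γ(⨁ F, V), z = ∑ j, (biproduct.ι F j).app V ((biproduct.π F j).app V z) := fun z => by
    have h1 := congrArg (fun f => f.app V z) (biproduct.total (f := F))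
    simp only [app_sum] at h1
    exact (h1.trans rfl).symm
  rw [e v, e w]
  exact Finset.sum_congr rfl fun j _ => by rw [h j]

end Biprod

variable (n : ℕ) (R : Type u) [CommRing R]

/-- The middle term of the Euler sequence. -/
abbrev mid : (CohB1.ProjSpace n R).Modules :=
  ⨁ fun _ : Fin (n + 1) => Twist.twistProjSpace n R (-1)

/-- The coordinate as a homogeneous element of degree one. -/
abbrev Xel (j : Fin (n + 1)) : CohB1.polyGrading n R 1 := ⟨MvPolynomial.X j, X_mem n R j⟩

/-- Multiplication by a coordinate. -/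
def mulXHom (j : Fin (n + 1)) : Twist.twistProjSpace n R (-1) ⟶ Twist.twistProjSpace n R 0 :=
  mulHomX (Xel n R j) (by norm_num)

/-- The map `O(-1)^(n+1) → O(0)`, `(v_j) ↦ Σ X_j v_j`. -/
def sigma : mid n R ⟶ Twist.twistProjSpace n R 0 :=
  biproduct.desc (mulXHom n R)

lemma val_sum {q : ℤ} {ι : Type} (s : Finset ι) {V : (CohB1.ProjSpace n R).Opens}
    (t : ι → Γ(Twist.twistProjSpace n R q, V)) (x : V) :
    TwistLib.val (∑ i ∈ s, t i) x = ∑ i ∈ s, TwistLib.val (t i) x := by
  classical
  induction s using Finset.induction_on with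
  | empty => rw [Finset.sum_empty, Finset.sum_empty]; rfl
  | insert i s hi ih => rw [Finset.sum_insert hi, Finset.sum_insert hi, ← ih]; rfl

lemma val_mulXel (j : Fin (n + 1)) {V : (CohB1.ProjSpace n R).Opens}
    (t : Γ(Twist.twistProjSpace n R (-1), V)) (x : V) :
    TwistLib.val ((mulXHom n R j).app V t) x =
      algebraMap (Poly n R) (Twist.Loc (CohB1.polyGrading n R) x.1) (MvPolynomial.X j) * TwistLib.val t x :=
  val_mulHomX (Xel n R j) (by norm_num) t x

attribute [local irreducible] mulXHom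

lemma sigma_app {V : (CohB1.ProjSpace n R).Opens} (v : Γ(mid n R, V)) :
    (sigma n R).app V v = ∑ j, (mulXHom n R j).app V
      ((biproduct.π (fun _ : Fin (n + 1) => Twist.twistProjSpace n R (-1)) j).app V v) := by
  have e : sigma n R = ∑ j, biproduct.π (fun _ : Fin (n + 1) => Twist.twistProjSpace n R (-1)) j ≫
      mulXHom n R j := biproduct.desc_eq
  rw [e]
  refine (app_sum _ _ V v).trans ?_
  exact Finset.sum_congr rfl fun j _ => app_comp' _ _ V v

lemma val_sigma {V : (CohB1.ProjSpace n R).Opens} (v : Γ(mid n R, V)) (x : V) :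
    TwistLib.val ((sigma n R).app V v) x =
      ∑ j, algebraMap (Poly n R) (Twist.Loc (CohB1.polyGrading n R) x.1) (MvPolynomial.X j) *
        TwistLib.val ((biproduct.π (fun _ : Fin (n + 1) => Twist.twistProjSpace n R (-1)) j).app V v) x := by
  rw [sigma_app]
  refine (val_sum n R _ _ x).trans ?_
  exact Finset.sum_congr rfl fun j _ => val_mulXel n R j _ x

variable [QuasiSeparated (CohB1.ProjSpace.toSpec n R)]

theorem existsUnique_eps (j : Fin (n + 1)) : ∃! α : Omega.sheaf (CohB1.ProjSpace.toSpec n R) ⟶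
      Twist.twistProjSpace n R (-1), (OmegaSh.dOmega (CohB1.ProjSpace.toSpec n R)).postcomp α.val = pderivDer n R j :=
  OmegaAffLib.isUniversal_dOmega _ (pderivDer n R j)

/-- The component `ω ↦ ω(∂/∂X_j)` of the map `Ω → O(-1)^(n+1)`. -/
def epsC (j : Fin (n + 1)) : Omega.sheaf (CohB1.ProjSpace.toSpec n R) ⟶ Twist.twistProjSpace n R (-1) :=
  (existsUnique_eps n R j).choose

lemma epsC_d (j : Fin (n + 1)) {V : (CohB1.ProjSpace n R).Opens} (f : Γ(CohB1.ProjSpace n R, V)) :
    (epsC n R j).app V ((OmegaSh.dOmega (CohB1.ProjSpace.toSpec n R)).app V f) = (pderivDer n R j).app V f :=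
  congrArg (fun D : OmegaSh.Der _ _ => D.app V f) (existsUnique_eps n R j).choose_spec.1

/-- The map `Ω → O(-1)^(n+1)`. -/
def eps : Omega.sheaf (CohB1.ProjSpace.toSpec n R) ⟶ mid n R := biproduct.lift (epsC n R)

lemma π_eps (j : Fin (n + 1)) {V : (CohB1.ProjSpace n R).Opens}
    (ω : Γ(Omega.sheaf (CohB1.ProjSpace.toSpec n R), V)) :
    (biproduct.π (fun _ : Fin (n + 1) => Twist.twistProjSpace n R (-1)) j).app V ((eps n R).app V ω) =
      (epsC n R j).app V ω := by
  rw [← app_comp', eps, biproduct.lift_π]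

theorem eps_sigma : eps n R ≫ sigma n R = 0 := by
  refine OmegaAffLib.der_hom_ext OmegaAffLib.isUniversal_dOmega fun U f => TwistLib.sec_ext fun x => ?_
  refine ((congrArg (fun s => TwistLib.val s x) (app_comp' (eps n R) (sigma n R) U
    ((OmegaSh.dOmega (CohB1.ProjSpace.toSpec n R)).app U f))).trans (val_sigma n R _ x)).trans ?_
  simp only [π_eps, epsC_d, val_pderivDer]
  refine Eq.trans ?_ (show (0 : Twist.Loc (CohB1.polyGrading n R) x.1) = _ from rfl)
  obtain ⟨W, hxW, ι, k, ⟨r, hr⟩, ⟨t, ht⟩, hnin, hw⟩ := (show Twist.O (op U) from f).2 x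
  have hv : ev (CohB1.polyGrading n R) x f = Localization.mk r ⟨t, hnin ⟨x.1, hxW⟩⟩ := by
    refine (congrArg HomogeneousLocalization.val (hw ⟨x.1, hxW⟩)).trans ?_
    rw [HomogeneousLocalization.val_mk]
  simp only [hv, fracD_mk, ← Localization.mk_one_eq_algebraMap, Localization.mk_mul, one_mul]
  rw [← Localization.mk_sum]
  have e : ∑ j, MvPolynomial.X j * (pderiv j r * t - r * pderiv j t) = 0 := by
    have h1 := ((MvPolynomial.mem_homogeneousSubmodule _ _).1 hr).sum_X_mul_pderiv
    have h2 := ((MvPolynomial.mem_homogeneousSubmodule _ _).1 ht).sum_X_mul_pderiv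
    simp only [mul_sub, Finset.sum_sub_distrib, mul_left_comm _ r, ← mul_assoc _ _ t, ← Finset.sum_mul,
      ← Finset.mul_sum, h1, h2, nsmul_eq_mul]
    ring
  rw [e, Localization.mk_zero]

/-- The Euler sequence. -/
abbrev eulerSeq : ShortComplex (CohB1.ProjSpace n R).Modules := ShortComplex.mk (eps n R) (sigma n R) (eps_sigma n R)

/-- The coordinate differential on a chart, restricted. -/
def dt (a : Fin (n + 1)) {V : (CohB1.ProjSpace n R).Opens} (hV : V ≤ QCohLib.stdOpen n R a) (l : Fin n) :
    Γ(Omega.sheaf (CohB1.ProjSpace.toSpec n R), V) :=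
  (OmegaSh.dOmega (CohB1.ProjSpace.toSpec n R)).app V
    (resO n R hV (deh n R a (MvPolynomial.X (a.succAbove l))))

/-- The inverse of the coordinate, in the localisation at a point of the chart. -/
lemma isUnit_X (a : Fin (n + 1)) {V : (CohB1.ProjSpace n R).Opens} (hV : V ≤ QCohLib.stdOpen n R a) (x : V) :
    IsUnit (algebraMap (Poly n R) (Twist.Loc (CohB1.polyGrading n R) x.1) (MvPolynomial.X a)) :=
  IsLocalization.map_units _ (⟨MvPolynomial.X a, hV x.2⟩ : x.1.asHomogeneousIdeal.toIdeal.primeCompl)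

lemma val_dt (a : Fin (n + 1)) {V : (CohB1.ProjSpace n R).Opens} (hV : V ≤ QCohLib.stdOpen n R a) (l : Fin n)
    (j : Fin (n + 1)) (x : V) :
    algebraMap (Poly n R) _ (MvPolynomial.X a) * algebraMap (Poly n R) _ (MvPolynomial.X a) *
        TwistLib.val ((epsC n R j).app V (dt n R a hV l)) x =
      algebraMap (Poly n R) (Twist.Loc (CohB1.polyGrading n R) x.1)
        ((if a.succAbove l = j then MvPolynomial.X a else 0) -
          if a = j then MvPolynomial.X (a.succAbove l) else 0) := by
  rw [dt, epsC_d, val_pderivDer]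
  have h : ev (CohB1.polyGrading n R) x (resO n R hV (deh n R a (MvPolynomial.X (a.succAbove l)))) = _ :=
    ev_deh n R a (MvPolynomial.isHomogeneous_X R (a.succAbove l)) ⟨x.1, hV x.2⟩
  rw [h, fracD_mk]
  simp only [← Localization.mk_one_eq_algebraMap, Localization.mk_mul]
  refine Localization.mk_eq_mk_iff.mpr (Localization.r_iff_exists.mpr ⟨1, ?_⟩)
  simp only [Submonoid.coe_mul, Submonoid.coe_one, one_mul, pow_one, MvPolynomial.pderiv_X, Pi.single_apply,
    eq_comm (a := j)]
  split_ifs <;> ring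

lemma val_combo (a : Fin (n + 1)) {V : (CohB1.ProjSpace n R).Opens} (hV : V ≤ QCohLib.stdOpen n R a)
    (c : Fin n → Γ(CohB1.ProjSpace n R, V)) (j : Fin (n + 1)) (x : V) :
    algebraMap (Poly n R) _ (MvPolynomial.X a) * algebraMap (Poly n R) _ (MvPolynomial.X a) *
        TwistLib.val ((biproduct.π (fun _ : Fin (n + 1) => Twist.twistProjSpace n R (-1)) j).app V
          ((eps n R).app V (∑ l, c l • dt n R a hV l))) x =
      ∑ l, ev (CohB1.polyGrading n R) x (c l) *
        algebraMap (Poly n R) (Twist.Loc (CohB1.polyGrading n R) x.1)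
          ((if a.succAbove l = j then MvPolynomial.X a else 0) -
            if a = j then MvPolynomial.X (a.succAbove l) else 0) := by
  rw [π_eps, map_sum, val_sum, Finset.mul_sum]
  refine Finset.sum_congr rfl fun l _ => ?_
  rw [Scheme.Modules.Hom.app_smul, ← val_dt n R a hV l j x]
  rw [val_smul']
  ring

lemma val_combo_ne (a : Fin (n + 1)) {V : (CohB1.ProjSpace n R).Opens} (hV : V ≤ QCohLib.stdOpen n R a)
    (c : Fin n → Γ(CohB1.ProjSpace n R, V)) (l : Fin n) (x : V) :
    algebraMap (Poly n R) _ (MvPolynomial.X a) *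
        TwistLib.val ((biproduct.π (fun _ : Fin (n + 1) => Twist.twistProjSpace n R (-1)) (a.succAbove l)).app V
          ((eps n R).app V (∑ l, c l • dt n R a hV l))) x =
      ev (CohB1.polyGrading n R) x (c l) := by
  refine (isUnit_X n R a hV x).mul_left_cancel ?_
  rw [← mul_assoc, val_combo, Finset.sum_eq_single l]
  · rw [if_pos rfl, if_neg (Fin.succAbove_ne a l).symm, sub_zero]
    exact mul_comm _ _
  · intro i _ hi
    rw [if_neg fun h => hi (Fin.succAbove_right_injective h), if_neg (Fin.succAbove_ne a l).symm, sub_zero, map_zero,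
      mul_zero]
  · exact fun h => (h (Finset.mem_univ l)).elim

/-- The unit section of `O(0)`. -/
def one₀ : TwistLib.Unit' (CohB1.polyGrading n R) 0 (⊤ : (CohB1.ProjSpace n R).Opens) :=
  ⟨0, 0, 1, 1, SetLike.GradedOne.one_mem, SetLike.GradedOne.one_mem, by simp,
    fun x h => x.1.isPrime.ne_top ((Ideal.eq_top_iff_one _).mpr h),
    fun x h => x.1.isPrime.ne_top ((Ideal.eq_top_iff_one _).mpr h)⟩

/-- A section of `O(0)` is a function. -/
theorem exists_fn {V : (CohB1.ProjSpace n R).Opens} (s : Γ(Twist.twistProjSpace n R 0, V)) :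
    ∃ f : Γ(CohB1.ProjSpace n R, V), ∀ x, ev (CohB1.polyGrading n R) x f = TwistLib.val s x := by
  obtain ⟨f, hf⟩ := ((one₀ n R).genOn V le_top).2 s
  refine ⟨f, fun x => ?_⟩
  rw [← hf]
  refine Eq.symm ((val_smul' f _ x).trans ?_)
  rw [show TwistLib.val (AmpleLib.res _ (le_top : V ≤ ⊤) (one₀ n R).sec) x = 1 from Localization.mk_one]
  exact mul_one _

/-- Exactness in the middle on a chart. -/
theorem exists_lift (a : Fin (n + 1)) {V : (CohB1.ProjSpace n R).Opens} (hV : V ≤ QCohLib.stdOpen n R a)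
    (v : Γ(mid n R, V)) (hv : (sigma n R).app V v = 0) : ∃ ω, (eps n R).app V ω = v := by
  classical
  let π' := fun j => (biproduct.π (fun _ : Fin (n + 1) => Twist.twistProjSpace n R (-1)) j).app V
  choose c hc using fun l : Fin n => exists_fn n R
    ((mulXHom n R a).app V (π' (a.succAbove l) v))
  refine ⟨∑ l, c l • dt n R a hV l, biprod_ext _ fun j => TwistLib.sec_ext fun x => ?_⟩
  rcases Fin.eq_self_or_eq_succAbove a j with rfl | ⟨l, rfl⟩
  · refine ((isUnit_X n R j hV x).mul (isUnit_X n R j hV x)).mul_left_cancel ?_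
    rw [val_combo]
    have h0 := congrArg (fun s => TwistLib.val s x) hv
    simp only [val_sigma] at h0
    rw [Fin.sum_univ_succAbove _ j] at h0
    replace h0 := eq_neg_of_add_eq_zero_left (h0.trans rfl)
    rw [mul_assoc, h0, mul_neg, Finset.mul_sum, ← Finset.sum_neg_distrib]
    refine Finset.sum_congr rfl fun l _ => ?_
    rw [if_neg (Fin.succAbove_ne j l), if_pos rfl, hc l, zero_sub, map_neg]
    erw [val_mulXel]
    ring
  · refine (isUnit_X n R a hV x).mul_left_cancel ?_
    rw [val_combo_ne, hc l]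
    exact val_mulXel n R a _ x

theorem surjective_sigma (a : Fin (n + 1)) {V : (CohB1.ProjSpace n R).Opens} (hV : V ≤ QCohLib.stdOpen n R a)
    (s : Γ(Twist.twistProjSpace n R 0, V)) : ∃ v, (sigma n R).app V v = s := by
  classical
  obtain ⟨c, hc⟩ := exists_fn n R s
  let g : Γ(Twist.twistProjSpace n R (-1), V) := c •
    TwistLib.fracSec (n := (-1 : ℤ)) (SetLike.GradedOne.one_mem (A := CohB1.polyGrading n R)) (X_mem n R a) (by norm_num)
      fun x => hV x.2
  refine ⟨tuple _ fun j => if j = a then g else 0, TwistLib.sec_ext fun x => ?_⟩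
  rw [val_sigma]
  simp only [π_tuple]
  rw [Finset.sum_eq_single a]
  · rw [if_pos rfl]
    erw [val_smul']
    rw [TwistLib.val_fracSec, ← hc x, mul_left_comm, ← Localization.mk_one_eq_algebraMap, Localization.mk_mul,
      one_mul, mul_one]
    exact (congrArg _ (Localization.mk_self (⟨MvPolynomial.X a, hV x.2⟩ :
      x.1.asHomogeneousIdeal.toIdeal.primeCompl))).trans (mul_one _)
  · intro j _ hj
    rw [if_neg hj, val_zero, mul_zero]
  · exact fun h => (h (Finset.mem_univ a)).elim

/-- **The Euler sequence.** -/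
theorem shortExact_eulerSeq [Nontrivial R] : (eulerSeq n R).ShortExact := by
  let P := CohB1.ProjSpace n R
  haveI := OmegaPnLib.smoothRel_projSpace R n
  have hd : OmegaSh.IsUniversal (OmegaSh.dOmega (CohB1.ProjSpace.toSpec n R)) := OmegaAffLib.isUniversal_dOmega
  have hΩ : FlatMod.IsFinLocFreeOfRank n (Omega.sheaf (CohB1.ProjSpace.toSpec n R)) := CohCmpLib.rank_omega _ n
  haveI : Coh.IsQCoh (Omega.sheaf (CohB1.ProjSpace.toSpec n R)) := (CurvLib.isCoh_of_locFree hΩ).1
  have hcov : ∀ x : P, ∃ a, x ∈ QCohLib.stdOpen n R a := fun x =>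
    Opens.mem_iSup.1 (show x ∈ ⨆ a, QCohLib.stdOpen n R a by rw [QCohLib.iSup_stdOpen]; trivial)
  haveI hm : Mono (eps n R) := by
    refine GrModLib6.mono_of_app_injective _ fun V => (injective_iff_map_eq_zero _).2 fun ω hω => ?_
    refine GrModLib6.eq_zero_of_locally ω fun x hx => ?_
    obtain ⟨a, ha⟩ := hcov x
    obtain ⟨W, hW, hxW, hle⟩ := exists_isAffineOpen_mem_and_subset (show x ∈ V ⊓ QCohLib.stdOpen n R a from ⟨hx, ha⟩)
    have hWV : W ≤ V := fun y hy => (hle hy).1
    have hWa : W ≤ QCohLib.stdOpen n R a := fun y hy => (hle hy).2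
    refine ⟨W, hWV, hxW, ?_⟩
    obtain ⟨c, hc⟩ := (DetDegLib.frame_bijective hW (fun l => dt n R a hWa l) fun y hy => by
      have h := (DetDegLib.frameAt_res hWa _ hy).2 (AdjFormLib.frame_d n R _ hd hΩ a y (hWa hy))
      convert h using 1
      funext l
      exact OmegaAffLib.der_rs (OmegaSh.dOmega (CohB1.ProjSpace.toSpec n R)) hWa _).2
      ((Omega.sheaf (CohB1.ProjSpace.toSpec n R)).presheaf.map (homOfLE hWV).op ω)
    rw [← hc]
    have h0 : (eps n R).app W (∑ l, c l • dt n R a hWa l) = 0 := by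
      rw [show (∑ l, c l • dt n R a hWa l) =
        (Omega.sheaf (CohB1.ProjSpace.toSpec n R)).presheaf.map (homOfLE hWV).op ω from hc,
        QCohLib.app_map, hω, map_zero]
    have hc0 : ∀ l, c l = 0 := fun l => ev_ext fun y => by
      rw [← val_combo_ne n R a hWa c l y, h0, map_zero, val_zero, mul_zero, map_zero]
    exact Finset.sum_eq_zero fun l _ => by rw [hc0, zero_smul]
  haveI he : Epi (sigma n R) := by
    refine QCohLib.epi_of_surjective_on_affines _ fun V s x hx => ?_
    obtain ⟨a, ha⟩ := hcov x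
    exact ⟨V ⊓ QCohLib.stdOpen n R a, inf_le_left, ⟨hx, ha⟩, surjective_sigma n R a inf_le_right _⟩
  exact ⟨GrModLib6.exact_of_locally_lift _ _ _ fun V t ht x hx => by
    obtain ⟨a, ha⟩ := hcov x
    refine ⟨V ⊓ QCohLib.stdOpen n R a, inf_le_left, ⟨hx, ha⟩, exists_lift n R a inf_le_right _ ?_⟩
    rw [QCohLib.app_map, ht, map_zero]⟩

end EulerPnLib
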